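import Groth.Agent.SSet.K358.Moore
import Mathlib.AlgebraicTopology.SimplicialSet.KanComplex
import Mathlib.Algebra.Category.Grp.Limits

/-!
# Simplicial groups are Kan complexes; surjections of simplicial abelian groups are Kan fibrations
-/

set_option autoImplicit false
universe u

open CategoryTheory Simplicial Opposite SSet

namespace K358.Horn

open K358.Moore

lemma δ_yonedaEquiv {Z : SSet.{u}} {n : ℕ} (j : Fin (n + 2)) (f : (Δ[n + 1] : SSet.{u}) ⟶ Z) :
    Z.δ j (yonedaEquiv f) = yonedaEquiv (stdSimplex.δ j ≫ f) :=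
  yonedaEquiv_naturality _ _

/-- the family of elements attached to a compatible family of faces is compatible. -/
lemma compat_of_isCompatible {Z : SSet.{u}} {n : ℕ} {i : Fin (n + 2)}
    {f : ∀ (j : Fin (n + 2)) (_ : j ≠ i), Δ[n] ⟶ Z} (hf : horn.IsCompatible f)
    (x : Fin (n + 2) → Z _⦋n⦌) (hx : ∀ j (hj : j ≠ i), x j = yonedaEquiv (f j hj)) :
    Compat n x {i}ᶜ := by
  cases n with
  | zero => trivial
  | succ n =>
    intro j k hjk hj hk
    have hj' : j.castSucc ≠ i := hj
    have hk' : k.succ ≠ i := hk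
    have hlt : j.castSucc < k.succ := by
      rw [Fin.lt_def]; rw [Fin.le_def] at hjk
      simp
      omega
    have h1 := (horn.isCompatible_iff f).1 hf j.castSucc k.succ hj' hk' hlt
    rw [Fin.pred_succ, Fin.castPred_castSucc] at h1
    rw [hx _ hk', hx _ hj', δ_yonedaEquiv, δ_yonedaEquiv, h1]

theorem kanComplex (X : SimplicialObject GrpCat.{u}) :
    SSet.KanComplex (X ⋙ forget GrpCat.{u}) := by
  rw [KanComplex.iff]
  intro n i f hf
  let Z : SSet.{u} := X ⋙ forget GrpCat
  let _ : ∀ n : ℕ, Group (Z _⦋n⦌) := fun n => inferInstanceAs (Group (X.obj (op ⦋n⦌)))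
  let x : Fin (n + 2) → Z _⦋n⦌ := fun j => if hj : j ≠ i then yonedaEquiv (f j hj) else 1
  have hx : ∀ j (hj : j ≠ i), x j = yonedaEquiv (f j hj) := fun j hj => dif_pos hj
  obtain ⟨g, -, hg⟩ := fill (X := Z)
    (fun n i a b => map_mul (X.map (SimplexCategory.δ i).op).hom a b)
    (fun n i a b => map_mul (X.map (SimplexCategory.σ i).op).hom a b) (fun n => ⊤)
    (fun _ _ _ _ => trivial) (fun _ _ _ _ => trivial) i x (fun _ _ => trivial)
    (compat_of_isCompatible hf x hx)
  refine ⟨yonedaEquiv.symm g, fun j hj => ?_⟩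
  apply yonedaEquiv.injective
  rw [← δ_yonedaEquiv, Equiv.apply_symm_apply]
  exact (hg j hj).trans (hx j hj)

/-- The underlying simplicial set of a simplicial abelian group. -/
abbrev und (X : SimplicialObject AddCommGrpCat.{u}) : SSet.{u} := X ⋙ forget AddCommGrpCat.{u}

/-- For a degreewise surjective homomorphism `f : X ⟶ Y` of simplicial abelian groups: a horn in `X` with
a filler in `Y` has a filler in `X` (elementwise form). -/
theorem exists_fill {X Y : SimplicialObject AddCommGrpCat.{u}} (f : X ⟶ Y)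
    (hf : ∀ n : SimplexCategoryᵒᵖ, Function.Surjective (f.app n)) {n : ℕ} (i : Fin (n + 2))
    (x : Fin (n + 2) → (und X) _⦋n⦌) (y : (und Y) _⦋n + 1⦌)
    (hc : Compat n x {i}ᶜ)
    (hxy : ∀ j ≠ i, f.app (op ⦋n⦌) (x j) = (und Y).δ j y) :
    ∃ g : (und X) _⦋n + 1⦌, f.app (op ⦋n + 1⦌) g = y ∧ ∀ j ≠ i, (und X).δ j g = x j := by
  let Z : SSet.{u} := und X
  let _ : ∀ n : ℕ, Group (Z _⦋n⦌) := fun n =>
    (inferInstance : Group (Multiplicative (X.obj (op ⦋n⦌))))
  have hmul : ∀ (n : ℕ) (a b : X.obj (op ⦋n⦌)), (show Z _⦋n⦌ from a) * (show Z _⦋n⦌ from b) = a + b :=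
    fun n a b => rfl
  -- the kernels
  let H : ∀ n : ℕ, Subgroup (Z _⦋n⦌) := fun n =>
    { carrier := {a | f.app (op ⦋n⦌) a = 0}
      mul_mem' := fun {a b} ha hb => by
        show (f.app (op ⦋n⦌)).hom ((show X.obj (op ⦋n⦌) from a) + (show X.obj (op ⦋n⦌) from b)) = 0
        rw [map_add]
        have ha' : (f.app (op ⦋n⦌)).hom (show X.obj (op ⦋n⦌) from a) = 0 := ha
        have hb' : (f.app (op ⦋n⦌)).hom (show X.obj (op ⦋n⦌) from b) = 0 := hb
        rw [ha', hb', add_zero]
      one_mem' := map_zero (f.app (op ⦋n⦌)).hom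
      inv_mem' := fun {a} ha => by
        show (f.app (op ⦋n⦌)).hom (-(show X.obj (op ⦋n⦌) from a)) = 0
        rw [map_neg]
        have ha' : (f.app (op ⦋n⦌)).hom (show X.obj (op ⦋n⦌) from a) = 0 := ha
        rw [ha', neg_zero] }
  obtain ⟨x0, rfl⟩ := hf _ y
  let dX : ∀ {n : ℕ} (j : Fin (n + 2)), X.obj (op ⦋n + 1⦌) ⟶ X.obj (op ⦋n⦌) := fun j => X.δ j
  have hnat : ∀ {n m : ℕ} (θ : ⦋n⦌ ⟶ ⦋m⦌) (a : X.obj (op ⦋m⦌)),
      f.app (op ⦋n⦌) (X.map θ.op a) = Y.map θ.op (f.app (op ⦋m⦌) a) := fun θ a =>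
    NatTrans.naturality_apply f θ.op a
  let z : Fin (n + 2) → Z _⦋n⦌ := fun j =>
    (show X.obj (op ⦋n⦌) from x j) - (X.map (SimplexCategory.δ j).op).hom x0
  obtain ⟨g, hgH, hg⟩ := fill (X := Z)
    (fun n i a b => map_add (X.map (SimplexCategory.δ i).op).hom a b)
    (fun n i a b => map_add (X.map (SimplexCategory.σ i).op).hom a b) H
    (fun n i a ha => by
      have ha' : f.app (op ⦋n + 1⦌) a = 0 := ha
      show f.app (op ⦋n⦌) (X.map (SimplexCategory.δ i).op a) = 0
      rw [hnat, ha']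
      exact map_zero (Y.map (SimplexCategory.δ i).op).hom)
    (fun n i a ha => by
      have ha' : f.app (op ⦋n⦌) a = 0 := ha
      show f.app (op ⦋n + 1⦌) (X.map (SimplexCategory.σ i).op a) = 0
      rw [hnat, ha']
      exact map_zero (Y.map (SimplexCategory.σ i).op).hom) i z (fun j hj => by
      show (f.app (op ⦋n⦌)).hom ((show X.obj (op ⦋n⦌) from x j) -
        (X.map (SimplexCategory.δ j).op).hom x0) = 0
      rw [map_sub, sub_eq_zero]
      exact (hxy j hj).trans (hnat _ _).symm) (by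
      cases n with
      | zero => trivial
      | succ n =>
        intro j k hjk hj hk
        have h1 := hc j k hjk hj hk
        have h2 := δδ (X := Z) hjk x0
        show (X.map (SimplexCategory.δ j).op).hom ((show X.obj (op ⦋n + 1⦌) from x k.succ) -
          (X.map (SimplexCategory.δ k.succ).op).hom x0) =
          (X.map (SimplexCategory.δ k).op).hom ((show X.obj (op ⦋n + 1⦌) from x j.castSucc) -
          (X.map (SimplexCategory.δ j.castSucc).op).hom x0)
        rw [map_sub, map_sub]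
        exact congrArg₂ (fun (a b : X.obj (op ⦋n⦌)) => a - b) h1 h2)
  refine ⟨(show X.obj (op ⦋n + 1⦌) from g) + x0, ?_, fun j hj => ?_⟩
  · show (f.app (op ⦋n + 1⦌)).hom ((show X.obj (op ⦋n + 1⦌) from g) + x0) = _
    rw [map_add]
    have h1 : (f.app (op ⦋n + 1⦌)).hom (show X.obj (op ⦋n + 1⦌) from g) = 0 := hgH
    rw [h1, zero_add]
  · show (X.map (SimplexCategory.δ j).op).hom ((show X.obj (op ⦋n + 1⦌) from g) + x0) = _
    rw [map_add]
    have h1 : (X.map (SimplexCategory.δ j).op).hom (show X.obj (op ⦋n + 1⦌) from g) =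
      (show X.obj (op ⦋n⦌) from x j) - (X.map (SimplexCategory.δ j).op).hom x0 := hg j hj
    rw [h1, sub_add_cancel]

/-- A degreewise surjective homomorphism of simplicial abelian groups is a Kan fibration. -/
theorem rlp_J {A B : SimplicialObject AddCommGrpCat.{u}} (f : A ⟶ B)
    (hf : ∀ n : SimplexCategoryᵒᵖ, Function.Surjective (f.app n)) :
    SSet.modelCategoryQuillen.J.rlp (X := und A) (Y := und B)
      (Functor.whiskerRight f (forget AddCommGrpCat.{u})) := by
  intro _ _ _ hj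
  simp only [SSet.modelCategoryQuillen.J, MorphismProperty.iSup_iff] at hj
  obtain ⟨n, ⟨i⟩⟩ := hj
  refine ⟨fun {a b} sq => ?_⟩
  let p : und A ⟶ und B := Functor.whiskerRight f (forget AddCommGrpCat.{u})
  let x : Fin (n + 2) → (und A) _⦋n⦌ := fun j =>
    if hj : j ≠ i then yonedaEquiv (horn.ι i j hj ≫ a) else (0 : A.obj (op ⦋n⦌))
  have hx : ∀ j (hj : j ≠ i), x j = yonedaEquiv (horn.ι i j hj ≫ a) := fun j hj => dif_pos hj
  obtain ⟨g, hg1, hg2⟩ := exists_fill f hf i x (yonedaEquiv b)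
    (compat_of_isCompatible (horn.IsCompatible.of_hom a) x hx) (fun j hj => by
      rw [hx j hj, δ_yonedaEquiv]
      have h1 : horn.ι i j hj ≫ a ≫ p = stdSimplex.δ j ≫ b := by
        rw [← horn.ι_ι i j hj, Category.assoc, ← sq.w]
      rw [← h1]
      rfl)
  refine ⟨⟨{ l := yonedaEquiv.symm g, fac_left := ?_, fac_right := ?_ }⟩⟩
  · apply horn.hom_ext'
    intro j hj
    rw [horn.ι_ι_assoc]
    apply yonedaEquiv.injective
    rw [← δ_yonedaEquiv, Equiv.apply_symm_apply]
    exact (hg2 j hj).trans (hx j hj)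
  · apply yonedaEquiv.injective
    rw [yonedaEquiv_comp, Equiv.apply_symm_apply]
    exact hg1

end K358.Horn
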