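import Groth.Agent.SSet.K358.Horn
import Mathlib.AlgebraicTopology.DoldKan.PInfty
import Mathlib.Algebra.Homology.HomologySequenceLemmas
import Mathlib.Algebra.Homology.ShortComplex.Ab
import Mathlib.Algebra.Homology.HomologicalComplexAbelian
import Mathlib.Algebra.Category.Grp.Abelian

/-!
# Surjective quasi-isomorphisms of simplicial abelian groups are trivial Kan fibrations
-/

set_option autoImplicit false
universe u

open CategoryTheory Simplicial Opposite SSet Limits

namespace K358.TrivAb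

open K358.Moore K358.Horn

/-- Elementwise acyclicity of the kernel of a surjective quasi-isomorphism. -/
theorem exists_of_quasiIso {A B : ChainComplex AddCommGrpCat.{u} ℕ} (φ : A ⟶ B)
    (hφ : ∀ n, Function.Surjective (φ.f n)) (hq : QuasiIso φ) (n : ℕ) (e : A.X n)
    (he : ∀ j, A.d n j e = 0) (hφe : φ.f n e = 0) :
    ∃ w : A.X (n + 1), φ.f (n + 1) w = 0 ∧ A.d (n + 1) n w = e := by
  have hepi : ∀ n, Epi (φ.f n) := fun n => (AddCommGrpCat.epi_iff_surjective _).2 (hφ n)
  have : Epi φ := HomologicalComplex.epi_of_epi_f _ hepi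
  let S : ShortComplex (ChainComplex AddCommGrpCat.{u} ℕ) :=
    ShortComplex.mk (kernel.ι φ) φ (kernel.condition φ)
  have hS : S.ShortExact :=
    { exact := ShortComplex.exact_of_f_is_kernel _ (kernelIsKernel φ) }
  have hac : S.X₁.Acyclic := hS.acyclic_X₁ hq
  have hSn : ∀ m, (S.map (HomologicalComplex.eval _ _ m)).ShortExact := fun m =>
    hS.map_of_exact (HomologicalComplex.eval _ _ m)
  have hinj : ∀ m, Function.Injective ((kernel.ι φ).f m) := fun m =>
    (AddCommGrpCat.mono_iff_injective _).1 (hSn m).mono_f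
  have hex : ∀ m (x : A.X m), φ.f m x = 0 → ∃ y : (kernel φ).X m, (kernel.ι φ).f m y = x := fun m x hx =>
    (ShortComplex.ab_exact_iff _).1 (hSn m).exact x hx
  obtain ⟨k, hk⟩ := hex n e hφe
  have hkd : ∀ j, (kernel φ).d n j k = 0 := by
    intro j
    apply hinj j
    rw [map_zero]
    have := ConcreteCategory.congr_hom ((kernel.ι φ).comm n j) k
    refine this.symm.trans ?_
    show A.d n j ((kernel.ι φ).f n k) = 0
    rw [hk, he]
  have hE := hac n
  rw [HomologicalComplex.exactAt_iff' _ (n + 1) n ((ComplexShape.down ℕ).next n)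
    (by simp) rfl, ShortComplex.ab_exact_iff] at hE
  obtain ⟨w, hw⟩ := hE k (hkd _)
  have hw' : (kernel φ).d (n + 1) n w = k := hw
  refine ⟨(kernel.ι φ).f (n + 1) w, ?_, ?_⟩
  · have := ConcreteCategory.congr_hom (HomologicalComplex.congr_hom (kernel.condition φ) (n + 1)) w
    exact this
  · have := ConcreteCategory.congr_hom ((kernel.ι φ).comm (n + 1) n) w
    refine this.trans ?_
    show (kernel.ι φ).f n ((kernel φ).d (n + 1) n w) = e
    rw [hw', hk]

section DoldKan

open AlgebraicTopology AlgebraicTopology.DoldKan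

variable (X : SimplicialObject AddCommGrpCat.{u})

/-- all faces of an element vanish. -/
def FacesVanish : ∀ (n : ℕ) (_ : X.obj (op ⦋n⦌)), Prop
  | 0, _ => True
  | n + 1, e => ∀ j : Fin (n + 2), X.map (SimplexCategory.δ j).op e = 0

variable {X}

lemma PInfty_apply {n : ℕ} (e : X.obj (op ⦋n⦌)) (he : FacesVanish X n e) :
    (PInfty.f n : X.obj (op ⦋n⦌) ⟶ X.obj (op ⦋n⦌)) e = e := by
  cases n with
  | zero => rw [PInfty_f_0]; rfl
  | succ n =>
    rw [PInfty_f]
    let Y : AddCommGrpCat.{u} := AddCommGrpCat.of (AddSubgroup.zmultiples e)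
    let φ : Y ⟶ X.obj (op ⦋n + 1⦌) := AddCommGrpCat.ofHom (AddSubgroup.zmultiples e).subtype
    have hφ : HigherFacesVanish (n + 1) φ := by
      intro j _
      ext ⟨x, hx⟩
      obtain ⟨k, rfl⟩ := hx
      have h1 : (X.map (SimplexCategory.δ j.succ).op).hom e = 0 := he j.succ
      show (X.map (SimplexCategory.δ j.succ).op).hom (k • e) = 0
      rw [map_zsmul, h1, smul_zero]
    have h2 := hφ.comp_P_eq_self
    exact ConcreteCategory.congr_hom h2 ⟨e, AddSubgroup.mem_zmultiples e⟩

lemma d_succ_apply (n : ℕ) (e : X.obj (op ⦋n + 1⦌)) :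
    ((alternatingFaceMapComplex AddCommGrpCat.{u}).obj X).d (n + 1) n e =
      ∑ i : Fin (n + 2), (-1 : ℤ) ^ (i : ℕ) • (X.map (SimplexCategory.δ i).op).hom e := by
  let ev : (X.obj (op ⦋n + 1⦌) ⟶ X.obj (op ⦋n⦌)) →+ X.obj (op ⦋n⦌) :=
    { toFun := fun g => g.hom e
      map_zero' := rfl
      map_add' := fun _ _ => rfl }
  rw [alternatingFaceMapComplex_obj_d]
  show ev (∑ i : Fin (n + 2), (-1 : ℤ) ^ (i : ℕ) • X.δ i) = _
  rw [map_sum]
  refine Finset.sum_congr rfl fun i _ => ?_
  rw [map_zsmul]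
  rfl

lemma d_apply_eq_zero {n : ℕ} (e : X.obj (op ⦋n⦌)) (he : FacesVanish X n e) (m : ℕ) :
    ((alternatingFaceMapComplex AddCommGrpCat.{u}).obj X).d n m e = 0 := by
  by_cases h : m + 1 = n
  · subst h
    rw [d_succ_apply]
    refine Finset.sum_eq_zero fun i _ => ?_
    have h1 : (X.map (SimplexCategory.δ i).op).hom e = 0 := he i
    rw [h1, smul_zero]
  · rw [HomologicalComplex.shape _ _ _ h]
    rfl

/-- The key step: an element all of whose faces vanish and which lies in the kernel is the zeroth face of an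
element of the kernel whose other faces vanish. -/
theorem exists_moore {X Y : SimplicialObject AddCommGrpCat.{u}} (f : X ⟶ Y)
    (hf : ∀ n : SimplexCategoryᵒᵖ, Function.Surjective (f.app n))
    (hq : QuasiIso ((alternatingFaceMapComplex AddCommGrpCat.{u}).map f)) {n : ℕ}
    (e : X.obj (op ⦋n⦌)) (he : FacesVanish X n e) (hfe : f.app (op ⦋n⦌) e = 0) :
    ∃ w : X.obj (op ⦋n + 1⦌), f.app (op ⦋n + 1⦌) w = 0 ∧
      X.map (SimplexCategory.δ 0).op w = e ∧
      ∀ j : Fin (n + 1), X.map (SimplexCategory.δ j.succ).op w = 0 := by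
  obtain ⟨w₀, h1, h2⟩ := exists_of_quasiIso ((alternatingFaceMapComplex AddCommGrpCat.{u}).map f)
    (fun n => hf (op ⦋n⦌)) hq n e (d_apply_eq_zero e he) hfe
  have hw₀ : f.app (op ⦋n + 1⦌) w₀ = 0 := h1
  let p : ∀ n, X.obj (op ⦋n⦌) ⟶ X.obj (op ⦋n⦌) := fun n => PInfty.f n
  let pY : ∀ n, Y.obj (op ⦋n⦌) ⟶ Y.obj (op ⦋n⦌) := fun n => PInfty.f n
  have hface : ∀ j : Fin (n + 1), X.map (SimplexCategory.δ j.succ).op (p (n + 1) w₀) = 0 := by
    intro j
    have h3 := HigherFacesVanish.of_P (X := X) (n + 1) n j (by omega)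
    have h4 := ConcreteCategory.congr_hom h3 w₀
    have h5 : p (n + 1) = (P (n + 1)).f (n + 1) := PInfty_f _
    rw [h5]
    exact h4
  refine ⟨p (n + 1) w₀, ?_, ?_, hface⟩
  · have h3 := ConcreteCategory.congr_hom (PInfty_f_naturality (n + 1) f) w₀
    refine h3.symm.trans ?_
    show (pY (n + 1)).hom (f.app (op ⦋n + 1⦌) w₀) = 0
    rw [hw₀, map_zero]
  · have h3 := ConcreteCategory.congr_hom ((PInfty (X := X)).comm (n + 1) n) w₀
    have h4 : ((alternatingFaceMapComplex AddCommGrpCat.{u}).obj X).d (n + 1) n (p (n + 1) w₀) = e := by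
      refine h3.trans ?_
      show (p n).hom (((alternatingFaceMapComplex AddCommGrpCat.{u}).obj X).d (n + 1) n w₀) = e
      rw [h2]
      exact PInfty_apply e he
    rw [d_succ_apply, Fin.sum_univ_succ] at h4
    have h5 : ∑ i : Fin (n + 1), (-1 : ℤ) ^ ((i.succ : Fin (n + 2)) : ℕ) •
        (X.map (SimplexCategory.δ i.succ).op).hom (p (n + 1) w₀) = 0 := by
      refine Finset.sum_eq_zero fun i _ => ?_
      have h6 : (X.map (SimplexCategory.δ i.succ).op).hom (p (n + 1) w₀) = 0 := hface i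
      rw [h6, smul_zero]
    rw [h5, add_zero] at h4
    simpa using h4

end DoldKan

section Fill

variable {A B : SimplicialObject AddCommGrpCat.{u}} (f : A ⟶ B)
  (hf : ∀ n : SimplexCategoryᵒᵖ, Function.Surjective (f.app n))
  (hq : QuasiIso ((AlgebraicTopology.alternatingFaceMapComplex AddCommGrpCat.{u}).map f))

include hf hq in
theorem exists_fill_boundary {n : ℕ} (x : Fin (n + 2) → (und A) _⦋n⦌) (y : (und B) _⦋n + 1⦌)
    (hc : Compat n x Set.univ)
    (hxy : ∀ j, f.app (op ⦋n⦌) (x j) = (und B).δ j y) :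
    ∃ g : (und A) _⦋n + 1⦌, f.app (op ⦋n + 1⦌) g = y ∧ ∀ j, (und A).δ j g = x j := by
  obtain ⟨g, hg1, hg2⟩ := exists_fill f hf 0 x y (hc.mono (Set.subset_univ _)) (fun j _ => hxy j)
  let g' : A.obj (op ⦋n + 1⦌) := g
  let e : A.obj (op ⦋n⦌) := (show A.obj (op ⦋n⦌) from x 0) - (A.map (SimplexCategory.δ 0).op).hom g'
  have hnat : ∀ {n m : ℕ} (θ : ⦋n⦌ ⟶ ⦋m⦌) (a : A.obj (op ⦋m⦌)),
      f.app (op ⦋n⦌) (A.map θ.op a) = B.map θ.op (f.app (op ⦋m⦌) a) := fun θ a =>
    NatTrans.naturality_apply f θ.op a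
  have he : FacesVanish A n e := by
    cases n with
    | zero => trivial
    | succ n =>
      intro j
      show (A.map (SimplexCategory.δ j).op).hom ((show A.obj (op ⦋n + 1⦌) from x 0) -
        (A.map (SimplexCategory.δ 0).op).hom g') = 0
      rw [map_sub, sub_eq_zero]
      have h1 : (und A).δ 0 (x j.succ) = (und A).δ j (x 0) :=
        hc 0 j (Fin.zero_le _) trivial trivial
      have h2 : (und A).δ 0 ((und A).δ j.succ g) = (und A).δ j ((und A).δ 0 g) :=
        δδ (X := und A) (Fin.zero_le j) g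
      have h3 := hg2 j.succ (Fin.succ_ne_zero j)
      rw [h3, h1] at h2
      exact h2
  have hfe : f.app (op ⦋n⦌) e = 0 := by
    show (f.app (op ⦋n⦌)).hom ((show A.obj (op ⦋n⦌) from x 0) -
        (A.map (SimplexCategory.δ 0).op).hom g') = 0
    rw [map_sub, sub_eq_zero]
    refine (hxy 0).trans ?_
    rw [← hg1]
    exact (hnat _ _).symm
  obtain ⟨w, hw1, hw2, hw3⟩ := exists_moore f hf hq e he hfe
  refine ⟨g' + w, ?_, fun j => ?_⟩
  · show (f.app (op ⦋n + 1⦌)).hom (g' + w) = y
    rw [map_add]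
    have h1 : (f.app (op ⦋n + 1⦌)).hom w = 0 := hw1
    rw [h1, add_zero]
    exact hg1
  · show (A.map (SimplexCategory.δ j).op).hom (g' + w) = x j
    rw [map_add]
    rcases Fin.eq_zero_or_eq_succ j with rfl | ⟨j', rfl⟩
    · have h1 : (A.map (SimplexCategory.δ 0).op).hom w = e := hw2
      rw [h1, add_sub_cancel]
    · have h1 : (A.map (SimplexCategory.δ j'.succ).op).hom w = 0 := hw3 j'
      rw [h1, add_zero]
      exact hg2 _ (Fin.succ_ne_zero _)

/-- the family of faces of a map out of the boundary is compatible. -/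
lemma compat_of_boundary {Z : SSet.{u}} {n : ℕ} (a : (∂Δ[n + 1] : SSet.{u}) ⟶ Z) :
    Compat n (fun j => yonedaEquiv (boundary.ι j ≫ a)) Set.univ := by
  cases n with
  | zero => trivial
  | succ n =>
    intro j k hjk _ _
    have h1 : stdSimplex.δ j ≫ boundary.ι k.succ = stdSimplex.δ k ≫ boundary.ι.{u} j.castSucc := by
      rw [← cancel_mono (Subcomplex.ι _), Category.assoc, Category.assoc, boundary.ι_ι,
        boundary.ι_ι, stdSimplex.δ_comp_δ hjk]
    rw [δ_yonedaEquiv, δ_yonedaEquiv, ← Category.assoc, h1, Category.assoc]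

include hf hq in
theorem rlp_I : SSet.modelCategoryQuillen.I.rlp (X := und A) (Y := und B)
      (Functor.whiskerRight f (forget AddCommGrpCat.{u})) := by
  intro _ _ _ hj
  obtain ⟨n⟩ := hj
  refine ⟨fun {a b} sq => ?_⟩
  let p : und A ⟶ und B := Functor.whiskerRight f (forget AddCommGrpCat.{u})
  cases n with
  | zero =>
    obtain ⟨g, hg⟩ := hf (op ⦋0⦌) (yonedaEquiv b)
    refine ⟨⟨{ l := yonedaEquiv.symm g, fac_left := boundary.hom_ext₀, fac_right := ?_ }⟩⟩
    apply yonedaEquiv.injective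
    rw [yonedaEquiv_comp, Equiv.apply_symm_apply]
    exact hg
  | succ n =>
    obtain ⟨g, hg1, hg2⟩ := exists_fill_boundary f hf hq
      (fun j => yonedaEquiv (boundary.ι j ≫ a)) (yonedaEquiv b) (compat_of_boundary a) (fun j => by
        rw [δ_yonedaEquiv]
        have h1 : boundary.ι j ≫ a ≫ p = stdSimplex.δ j ≫ b := by
          rw [← boundary.ι_ι j, Category.assoc, ← sq.w]
        rw [← h1]
        rfl)
    refine ⟨⟨{ l := yonedaEquiv.symm g, fac_left := ?_, fac_right := ?_ }⟩⟩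
    · apply boundary.hom_ext
      intro j
      rw [boundary.ι_ι_assoc]
      apply yonedaEquiv.injective
      rw [← δ_yonedaEquiv, Equiv.apply_symm_apply]
      exact hg2 j
    · apply yonedaEquiv.injective
      rw [yonedaEquiv_comp, Equiv.apply_symm_apply]
      exact hg1

end Fill

end K358.TrivAb
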