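import Groth.Agent.SSet.K358.Cosk

/-!
# Coskeletal simplicial sets, continued

* `stdSimplex_isCoskeletal_one`: `Δ[m]` is `1`-coskeletal;
* `rlp_of_isCoskeletal`: maps of `n`-coskeletal simplicial sets which are bijective in dimensions `< n` and
  surjective in dimension `n` are trivial Kan fibrations.
-/

set_option autoImplicit false
universe u

open CategoryTheory Simplicial Opposite SSet

namespace K358.Cosk2

open K358.Cosk

/-- a map between truncations commutes with the structure maps. -/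
lemma tr_naturality {G X : SSet.{u}} {n : ℕ} (β : (truncation n).obj G ⟶ (truncation n).obj X)
    {k l : ℕ} (hk : k ≤ n) (hl : l ≤ n) (θ : ⦋k⦌ ⟶ ⦋l⦌) (x : G _⦋l⦌) :
    β.app (op ⟨⦋k⦌, hk⟩) (G.map θ.op x) = X.map θ.op (β.app (op ⟨⦋l⦌, hl⟩) x) :=
  NatTrans.naturality_apply β
    (Quiver.Hom.op (X := (⟨⦋k⦌, hk⟩ : SimplexCategory.Truncated n)) (Y := ⟨⦋l⦌, hl⟩) ⟨θ⟩) x

lemma map_const_apply {m k : ℕ} (i : Fin (k + 1)) (x : Δ[m] _⦋k⦌) :
    (Δ[m].map (⦋0⦌.const ⦋k⦌ i).op x : Δ[m] _⦋0⦌) 0 = x i := rfl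

section StdSimplex

variable {G : SSet.{u}} {m : ℕ} (β : (truncation 1).obj G ⟶ (truncation 1).obj (Δ[m] : SSet.{u}))

/-- the vertices of the image. -/
def vtx {k : ℕ} (x : G _⦋k⦌) (i : Fin (k + 1)) : Fin (m + 1) :=
  (show Δ[m] _⦋0⦌ from β.app (op ⟨⦋0⦌, by simp⟩) (G.map (⦋0⦌.const ⦋k⦌ i).op x)) 0

lemma vtx_map {k l : ℕ} (θ : ⦋k⦌ ⟶ ⦋l⦌) (x : G _⦋l⦌) (i : Fin (k + 1)) :
    vtx β (G.map θ.op x) i = vtx β x (θ.toOrderHom i) := by
  unfold vtx
  rw [← Functor.map_comp_apply, ← op_comp]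
  rfl

lemma vtx_eq {k : ℕ} (hk : k ≤ 1) (x : G _⦋k⦌) (i : Fin (k + 1)) :
    vtx β x i = (show Δ[m] _⦋k⦌ from β.app (op ⟨⦋k⦌, hk⟩) x) i := by
  unfold vtx
  rw [tr_naturality β (by simp) hk]
  rfl

lemma vtx_monotone {k : ℕ} (x : G _⦋k⦌) : Monotone (vtx β x) := by
  intro i j hij
  have h1 := vtx_map β (SimplexCategory.mkOfLe i j hij) x 0
  have h2 := vtx_map β (SimplexCategory.mkOfLe i j hij) x 1
  rw [vtx_eq β le_rfl] at h1 h2
  have h3 := stdSimplex.monotone_apply (show Δ[m] _⦋1⦌ from β.app (op ⟨⦋1⦌, le_rfl⟩)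
    (G.map (SimplexCategory.mkOfLe i j hij).op x)) (show (0 : Fin 2) ≤ 1 by simp)
  dsimp only at h3
  rw [h1, h2] at h3
  exact h3

/-- the extension of a map of `1`-truncations. -/
def ext1 : G ⟶ (Δ[m] : SSet.{u}) where
  app k := ↾fun x => stdSimplex.objMk ⟨vtx β (k := k.unop.len) x, vtx_monotone β _⟩
  naturality k l θ := by
    ext x
    apply stdSimplex.objEquiv.injective
    ext i : 3
    exact vtx_map β θ.unop x i

theorem stdSimplex_isCoskeletal_one (m : ℕ) :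
    SimplicialObject.IsCoskeletal (Δ[m] : SSet.{u}) 1 := by
  apply isCoskeletal_of_existsUnique
  intro G β
  refine ⟨ext1 β, ?_, ?_⟩
  · apply tr_hom_ext
    intro k hk x
    apply stdSimplex.ext
    intro i
    exact vtx_eq β hk x i
  · rintro γ rfl
    ext ⟨k⟩ x
    induction k using SimplexCategory.rec with | _ k =>
    apply stdSimplex.ext
    intro i
    have h1 := NatTrans.naturality_apply γ (⦋0⦌.const ⦋k⦌ i).op x
    show (γ.app (op ⦋k⦌) x : Δ[m] _⦋k⦌) i =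
      (γ.app (op ⦋0⦌) (G.map (⦋0⦌.const ⦋k⦌ i).op x) : Δ[m] _⦋0⦌) 0
    rw [h1]
    rfl

end StdSimplex

section Rlp

/-- Maps out of a simplicial set of dimension `< d` are determined in dimensions `< d`. -/
lemma hom_ext_of_hasDimensionLT {K X : SSet.{u}} (d : ℕ) [K.HasDimensionLT d] {f g : K ⟶ X}
    (h : ∀ k, k < d → ∀ x : K _⦋k⦌, f.app (op ⦋k⦌) x = g.app (op ⦋k⦌) x) : f = g := by
  ext ⟨k⟩ x
  induction k using SimplexCategory.rec with | _ k =>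
  obtain ⟨m, s, _, y, rfl⟩ := K.exists_nonDegenerate x
  have hm : m < d := K.dim_lt_of_nonDegenerate y d
  show f.app (op ⦋k⦌) (K.map s.op y.1) = g.app (op ⦋k⦌) (K.map s.op y.1)
  rw [NatTrans.naturality_apply, NatTrans.naturality_apply, h m hm]

lemma hasLiftingProperty {K L X Y : SSet.{u}} (i : K ⟶ L) (p : X ⟶ Y)
    (h : ∀ (a : K ⟶ X) (b : L ⟶ Y), a ≫ p = i ≫ b → ∃ l : L ⟶ X, i ≫ l = a ∧ l ≫ p = b) :
    HasLiftingProperty i p := by
  refine ⟨fun {a b} sq => ?_⟩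
  obtain ⟨l, h1, h2⟩ := h a b sq.w
  exact ⟨⟨{ l := l, fac_left := h1, fac_right := h2 }⟩⟩

/-- Lifting against `∂Δ[k] ⟶ Δ[k]` when the map is injective below `k` and surjective at `k`. -/
lemma lift_of_injective {U V : SSet.{u}} (f : V ⟶ U) (k : ℕ)
    (h1 : ∀ i : ℕ, i < k → Function.Injective (f.app (op ⦋i⦌)))
    (h2 : Function.Surjective (f.app (op ⦋k⦌))) :
    HasLiftingProperty (∂Δ[k] : (Δ[k] : SSet.{u}).Subcomplex).ι f := by
  apply hasLiftingProperty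
  intro a b hab
  obtain ⟨v, hv⟩ := h2 (yonedaEquiv b)
  have hb : yonedaEquiv.symm v ≫ f = b := by
    rw [yonedaEquiv_symm_comp, hv, Equiv.symm_apply_apply]
  refine ⟨yonedaEquiv.symm v, ?_, hb⟩
  apply hom_ext_of_hasDimensionLT k
  intro j hj x
  apply h1 j hj
  have h3 := congrArg (fun (q : (∂Δ[k] : SSet.{u}) ⟶ U) => q.app (op ⦋j⦌) x) hab
  have h4 := congrArg (fun (q : (Δ[k] : SSet.{u}) ⟶ U) =>
    ((∂Δ[k] : (Δ[k] : SSet.{u}).Subcomplex).ι ≫ q).app (op ⦋j⦌) x) hb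
  exact h4.trans h3.symm

/-- Lifting against `∂Δ[k] ⟶ Δ[k]` for `n`-coskeletal simplicial sets and `n < k`. -/
lemma lift_of_isCoskeletal {U V : SSet.{u}} (f : V ⟶ U) (n k : ℕ) (hk : n < k)
    [SimplicialObject.IsCoskeletal U n] [SimplicialObject.IsCoskeletal V n] :
    HasLiftingProperty (∂Δ[k] : (Δ[k] : SSet.{u}).Subcomplex).ι f := by
  apply hasLiftingProperty
  intro a b hab
  have hmem : ∀ j ≤ n, ∀ x : Δ[k] _⦋j⦌, x ∈ (∂Δ[k] : (Δ[k] : SSet.{u}).Subcomplex).obj _ := by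
    intro j hj x
    rw [boundary_obj_eq_univ j k (by lia)]
    trivial
  obtain ⟨l, hl⟩ := exists_hom (X := V) n (Δ[k] : SSet.{u})
    (fun j hj x => a.app (op ⦋j⦌) ⟨x, hmem j hj x⟩) (by
      intro j j' hj hj' θ x
      exact NatTrans.naturality_apply a θ.op ⟨x, hmem j' hj' x⟩)
  refine ⟨l, ?_, ?_⟩
  · apply hom_ext n
    intro j hj x
    exact hl j hj x.1
  · apply hom_ext n
    intro j hj x
    have h3 := congrArg (fun (q : (∂Δ[k] : SSet.{u}) ⟶ U) => q.app (op ⦋j⦌) ⟨x, hmem j hj x⟩) hab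
    refine Eq.trans ?_ h3
    show f.app (op ⦋j⦌) (l.app (op ⦋j⦌) x) = f.app (op ⦋j⦌) (a.app (op ⦋j⦌) ⟨x, hmem j hj x⟩)
    rw [hl j hj x]

theorem rlp_of_isCoskeletal {U V : SSet.{u}} (f : V ⟶ U) (n : ℕ)
    (h1 : ∀ i : ℕ, i < n → Function.Bijective (f.app (op ⦋i⦌)))
    (h2 : Function.Surjective (f.app (op ⦋n⦌)))
    [SimplicialObject.IsCoskeletal U n] [SimplicialObject.IsCoskeletal V n] :
    SSet.modelCategoryQuillen.I.rlp f := by
  rintro _ _ _ ⟨k⟩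
  rcases lt_trichotomy n k with hk | rfl | hk
  · exact lift_of_isCoskeletal f n k hk
  · exact lift_of_injective f n (fun i hi => (h1 i hi).1) h2
  · exact lift_of_injective f k (fun i hi => (h1 i (hi.trans hk)).1) (h1 k hk).2

end Rlp

end K358.Cosk2
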