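import Mathlib.AlgebraicTopology.SimplicialSet.CategoryWithFibrations
import Mathlib.AlgebraicTopology.CechNerve
import Mathlib.CategoryTheory.Limits.Types.Limits

/-!
# The Čech nerve of a surjection of sets is a trivial Kan fibration
-/

set_option autoImplicit false
universe u

open CategoryTheory Simplicial Opposite SSet CategoryTheory.Limits

namespace K358.Cech

variable {A B : Type u} (f : A ⟶ B)

/-- A map to the Čech nerve is determined by its value on vertices and the augmentation. -/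
lemma hom_ext {K : SSet.{u}} {g h : K ⟶ (Arrow.mk f).cechNerve}
    (h0 : g.app (op ⦋0⦌) ≫ WidePullback.π (fun _ => f) 0 = h.app (op ⦋0⦌) ≫ WidePullback.π (fun _ => f) 0)
    (haug : g ≫ (Arrow.mk f).augmentedCechNerve.hom = h ≫ (Arrow.mk f).augmentedCechNerve.hom) :
    g = h := by
  have key : ∀ (g : K ⟶ (Arrow.mk f).cechNerve) (n : SimplexCategoryᵒᵖ) (j : Fin (n.unop.len + 1)),
      g.app n ≫ WidePullback.π (fun _ => f) j =
        K.map (SimplexCategory.const ⦋0⦌ n.unop j).op ≫ g.app (op ⦋0⦌) ≫ WidePullback.π (fun _ => f) 0 := by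
    intro g n j
    have e : (Arrow.mk f).cechNerve.map (SimplexCategory.const ⦋0⦌ n.unop j).op ≫
        WidePullback.π (fun _ : Fin 1 => f) 0 = WidePullback.π (fun _ => f) j := by
      rw [Arrow.cechNerve_map]
      exact WidePullback.lift_π (fun _ : Fin 1 => f) _ _ _ 0
    rw [g.naturality_assoc]
    exact (congrArg (fun q => g.app n ≫ q) e).symm
  apply NatTrans.ext
  ext1 n
  refine WidePullback.hom_ext _ _ _ (fun j => ?_) ?_
  · exact (key g n j).trans ((congrArg _ h0).trans (key h n j).symm)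
  · exact congr_app haug n

theorem hasLiftingProperty (hf : Function.Surjective f) {K L : SSet.{u}} (i : K ⟶ L) [Mono i] :
    HasLiftingProperty i (Arrow.mk f).augmentedCechNerve.hom := by
  refine ⟨fun {a b} sq => ?_⟩
  classical
  have hi : Function.Injective (i.app (op ⦋0⦌)) := (mono_iff_injective _).1 inferInstance
  let p : (Arrow.mk f).cechNerve.obj (op ⦋0⦌) → A := WidePullback.π (fun _ => f) 0
  let b0 : L _⦋0⦌ → B := b.app (op ⦋0⦌)
  have hp : ∀ y : K _⦋0⦌, f (p (a.app (op ⦋0⦌) y)) = b0 (i.app (op ⦋0⦌) y) := by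
    intro y
    have h1 := congr_app sq.w (op ⦋0⦌)
    have h2 := congrArg (fun q : K _⦋0⦌ ⟶ B => q y) h1
    refine Eq.trans ?_ h2
    have h3 := WidePullback.π_arrow (fun _ : Fin 1 => f) 0
    exact congrArg (fun q : widePullback B (fun _ : Fin 1 => A) (fun _ => f) ⟶ B => q (a.app (op ⦋0⦌) y)) h3
  have hc : ∀ x : L _⦋0⦌, ∃ c : A, f c = b0 x ∧ ∀ y, i.app (op ⦋0⦌) y = x → c = p (a.app (op ⦋0⦌) y) := by
    intro x
    by_cases hx : ∃ y, i.app (op ⦋0⦌) y = x
    · obtain ⟨y, rfl⟩ := hx
      exact ⟨p (a.app (op ⦋0⦌) y), hp y, fun y' hy' => by rw [hi hy']⟩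
    · obtain ⟨c, hc⟩ := hf (b0 x)
      exact ⟨c, hc, fun y hy => (hx ⟨y, hy⟩).elim⟩
  choose c hc1 hc2 using hc
  let X : SimplicialObject.Augmented (Type u) :=
    { left := L, right := B, hom := b }
  let G : SimplicialObject.Augmented.toArrow.obj X ⟶ Arrow.mk f :=
    { left := ↾c
      right := 𝟙 _
      w := by
        ext x
        exact hc1 x }
  let l := SimplicialObject.equivalenceLeftToRight X (Arrow.mk f) G
  have hl : l.left ≫ (Arrow.mk f).augmentedCechNerve.hom = b := by
    have := l.w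
    refine this.trans ?_
    ext n x
    rfl
  refine ⟨⟨{ l := l.left, fac_left := ?_, fac_right := hl }⟩⟩
  apply hom_ext f
  · ext y
    have h1 : l.left.app (op ⦋0⦌) ≫ WidePullback.π (fun _ => f) 0 =
        L.map (SimplexCategory.const ⦋0⦌ ⦋0⦌ 0).op ≫ ↾c := WidePullback.lift_π _ _ _ _ _
    have h2 : L.map (SimplexCategory.const ⦋0⦌ ⦋0⦌ 0).op = 𝟙 _ := by
      have : SimplexCategory.const ⦋0⦌ ⦋0⦌ 0 = 𝟙 _ := by
        ext x : 3
        exact Subsingleton.elim (α := Fin 1) _ _
      rw [this, op_id, L.map_id]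
    rw [h2, Category.id_comp] at h1
    have h3 := congrArg (fun q : L _⦋0⦌ ⟶ A => q (i.app (op ⦋0⦌) y)) h1
    exact h3.trans (hc2 _ y rfl)
  · exact (Category.assoc i l.left _).trans ((congrArg (fun q => i ≫ q) hl).trans sq.w.symm)

end K358.Cech
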