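import Mathlib.AlgebraicTopology.SimplicialSet.Homotopy
import Mathlib.AlgebraicTopology.SimplicialSet.CategoryWithFibrations

/-!
# Trivial Kan fibrations are homotopy equivalences
-/

set_option autoImplicit false
universe u

open CategoryTheory Simplicial Opposite SSet MonoidalCategory

namespace K358.Triv

variable {X Y Z : SSet.{u}}

/-- The subcomplex `X ⊗ ∂Δ[1]` of `X ⊗ Δ[1]`, as the simplices with constant second component. -/
def ends (X : SSet.{u}) : (X ⊗ Δ[1] : SSet.{u}).Subcomplex where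
  obj n := {x | ∀ i j : Fin (n.unop.len + 1), (stdSimplex.objEquiv x.2).toOrderHom i =
    (stdSimplex.objEquiv x.2).toOrderHom j}
  map {_ _} θ _ hx i j := hx (θ.unop.toOrderHom i) (θ.unop.toOrderHom j)

/-- the end on which a simplex lies. -/
def side {n : SimplexCategoryᵒᵖ} (x : (ends X : SSet.{u}).obj n) : Fin 2 :=
  (stdSimplex.objEquiv x.1.2).toOrderHom 0

lemma side_map {n m : SimplexCategoryᵒᵖ} (θ : n ⟶ m) (x : (ends X : SSet.{u}).obj n) :
    side ((ends X : SSet.{u}).map θ x) = side x := x.2 _ _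

/-- gluing, on simplices. -/
noncomputable def glueFun (u v : X ⟶ Z) {n : SimplexCategoryᵒᵖ} (x : (ends X : SSet.{u}).obj n) :
    Z.obj n := if side x = 0 then u.app n x.1.1 else v.app n x.1.1

lemma glueFun_pos (u v : X ⟶ Z) {n : SimplexCategoryᵒᵖ} (x : (ends X : SSet.{u}).obj n)
    (h : side x = 0) : glueFun u v x = u.app n x.1.1 := if_pos h

lemma glueFun_neg (u v : X ⟶ Z) {n : SimplexCategoryᵒᵖ} (x : (ends X : SSet.{u}).obj n)
    (h : ¬ side x = 0) : glueFun u v x = v.app n x.1.1 := if_neg h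

/-- Gluing two maps over the two ends. -/
noncomputable def glue (u v : X ⟶ Z) : (ends X : SSet.{u}) ⟶ Z where
  app n := ↾fun x => glueFun u v x
  naturality n m θ := by
    ext x
    show glueFun u v ((ends X : SSet.{u}).map θ x) = Z.map θ (glueFun u v x)
    have h1 : ((ends X : SSet.{u}).map θ x).1.1 = X.map θ x.1.1 := rfl
    by_cases h : side x = 0
    · rw [glueFun_pos u v x h, glueFun_pos u v _ ((side_map θ x).trans h), h1,
        NatTrans.naturality_apply]
    · rw [glueFun_neg u v x h, glueFun_neg u v _ (fun h' => h ((side_map θ x).symm.trans h')), h1,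
        NatTrans.naturality_apply]

lemma glue_app_apply (u v : X ⟶ Z) {n : SimplexCategoryᵒᵖ} (x : (ends X : SSet.{u}).obj n) :
    (glue u v).app n x = glueFun u v x := rfl

/-- The first end. -/
noncomputable def e₀ : X ⟶ (ends X : SSet.{u}) :=
  Subcomplex.lift ι₀ (by
    rintro n _ ⟨x, rfl⟩ i j
    rfl)

/-- The second end. -/
noncomputable def e₁ : X ⟶ (ends X : SSet.{u}) :=
  Subcomplex.lift ι₁ (by
    rintro n _ ⟨x, rfl⟩ i j
    rfl)

lemma e₀_ι : (e₀ : X ⟶ (ends X : SSet.{u})) ≫ (ends X).ι = ι₀ := rfl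

lemma e₁_ι : (e₁ : X ⟶ (ends X : SSet.{u})) ≫ (ends X).ι = ι₁ := rfl

lemma e₀_glue (u v : X ⟶ Z) : e₀ ≫ glue u v = u := by
  ext n x
  exact glueFun_pos u v (e₀.app n x) rfl

lemma e₁_glue (u v : X ⟶ Z) : e₁ ≫ glue u v = v := by
  ext n x
  refine glueFun_neg u v (e₁.app n x) ?_
  show ¬ ((1 : Fin 2) = 0)
  simp

lemma glue_comp (u v : X ⟶ Z) {W : SSet.{u}} (p : Z ⟶ W) :
    glue u v ≫ p = glue (u ≫ p) (v ≫ p) := by
  ext n x
  show p.app n (glueFun u v x) = glueFun (u ≫ p) (v ≫ p) x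
  by_cases h : side x = 0
  · rw [glueFun_pos _ _ _ h, glueFun_pos _ _ _ h]
    rfl
  · rw [glueFun_neg _ _ _ h, glueFun_neg _ _ _ h]
    rfl

lemma glue_self (u : X ⟶ Z) : glue u u = (ends X).ι ≫ CartesianMonoidalCategory.fst _ _ ≫ u := by
  ext n x
  show glueFun u u x = u.app n x.1.1
  by_cases h : side x = 0
  · rw [glueFun_pos _ _ _ h]
  · rw [glueFun_neg _ _ _ h]

/-- Two maps to the source of a trivial Kan fibration which agree after composition are homotopic. -/
theorem nonempty_homotopy_of_rlp {A : SSet.{u}} (f : X ⟶ Y)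
    (hf : SSet.modelCategoryQuillen.I.rlp f) (u v : A ⟶ X) (h : u ≫ f = v ≫ f) :
    Nonempty (SSet.Homotopy u v) := by
  have hf' : (MorphismProperty.monomorphisms SSet.{u}).rlp f := by
    rw [rlp_monomorphisms]; exact hf
  have := hf' (ends A).ι (MorphismProperty.monomorphisms.infer_property _)
  have sq : CommSq (glue u v) (ends A).ι f (CartesianMonoidalCategory.fst _ _ ≫ u ≫ f) := ⟨by
    rw [glue_comp, ← h, glue_self]⟩
  refine ⟨{ h := sq.lift, h₀ := ?_, h₁ := ?_, rel := ?_ }⟩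
  · rw [← e₀_ι, Category.assoc, sq.fac_left, e₀_glue]
    rfl
  · rw [← e₁_ι, Category.assoc, sq.fac_left, e₁_glue]
    rfl
  · ext ⟨k⟩ x
    exact (Set.notMem_empty _ x.1.2).elim

theorem exists_section (f : X ⟶ Y) (hf : SSet.modelCategoryQuillen.I.rlp f) :
    ∃ g : Y ⟶ X, g ≫ f = 𝟙 Y := by
  have hf' : (MorphismProperty.monomorphisms SSet.{u}).rlp f := by
    rw [rlp_monomorphisms]; exact hf
  have := hf' (⊥ : Y.Subcomplex).ι (MorphismProperty.monomorphisms.infer_property _)
  have sq : CommSq (Subcomplex.isInitialBot.to X) (⊥ : Y.Subcomplex).ι f (𝟙 Y) :=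
    ⟨Subcomplex.isInitialBot.hom_ext _ _⟩
  exact ⟨sq.lift, sq.fac_right⟩

end K358.Triv
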