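import Mathlib.AlgebraicTopology.SimplicialObject.Coskeletal
import Mathlib.AlgebraicTopology.SimplicialSet.Homotopy
import Mathlib.AlgebraicTopology.SimplicialSet.CategoryWithFibrations

/-!
# Coskeletal simplicial sets

* `existsUnique_hom`, `isCoskeletal_of_existsUnique`: `X` is `n`-coskeletal iff maps `G ⟶ X` are the same as maps
  between `n`-truncations.
* `mkTr`: construction of maps between truncations.
* `rlp_of_isCoskeletal`, `nonempty_homotopy`, `stdSimplex_isCoskeletal_one`.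
-/

set_option autoImplicit false
universe u

open CategoryTheory Simplicial Opposite SSet

namespace K358.Cosk

lemma existsUnique_hom {X : SSet.{u}} (n : ℕ) [SimplicialObject.IsCoskeletal X n] (G : SSet.{u})
    (β : (truncation n).obj G ⟶ (truncation n).obj X) :
    ∃! γ : G ⟶ X, (truncation n).map γ = β := by
  refine ⟨Functor.liftOfIsRightKanExtension X (𝟙 ((SimplexCategory.Truncated.inclusion n).op ⋙ X))
    G β, ?_, ?_⟩
  · have := Functor.liftOfIsRightKanExtension_fac X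
      (𝟙 ((SimplexCategory.Truncated.inclusion n).op ⋙ X)) G β
    rw [Category.comp_id] at this
    exact this
  · intro γ hγ
    apply Functor.hom_ext_of_isRightKanExtension X
      (𝟙 ((SimplexCategory.Truncated.inclusion n).op ⋙ X))
    rw [Functor.liftOfIsRightKanExtension_fac, Category.comp_id]
    exact hγ

lemma isCoskeletal_of_existsUnique {X : SSet.{u}} (n : ℕ)
    (h : ∀ (G : SSet.{u}) (β : (truncation n).obj G ⟶ (truncation n).obj X),
      ∃! γ : G ⟶ X, (truncation n).map γ = β) : SimplicialObject.IsCoskeletal X n := by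
  refine ⟨⟨⟨?_⟩⟩⟩
  refine Limits.IsTerminal.ofUniqueHom (fun G => CostructuredArrow.homMk
    (h G.left G.hom).choose ?_) ?_
  · have := (h G.left G.hom).choose_spec.1
    dsimp [Functor.RightExtension.mk]
    rw [Category.comp_id]
    exact this
  · intro G m
    apply CostructuredArrow.hom_ext
    apply (h G.left G.hom).choose_spec.2
    have := CostructuredArrow.w m
    dsimp [Functor.RightExtension.mk] at this
    rw [Category.comp_id] at this
    exact this

/-- Constructor for maps between truncations. -/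
def mkTr {G X : SSet.{u}} (n : ℕ) (φ : ∀ k, k ≤ n → G _⦋k⦌ → X _⦋k⦌)
    (hφ : ∀ (k l : ℕ) (hk : k ≤ n) (hl : l ≤ n) (θ : ⦋k⦌ ⟶ ⦋l⦌) (x : G _⦋l⦌),
      φ k hk (G.map θ.op x) = X.map θ.op (φ l hl x)) :
    (truncation n).obj G ⟶ (truncation n).obj X where
  app k := ↾(φ k.unop.1.len k.unop.2)
  naturality k l θ := by
    ext x
    exact hφ _ _ _ _ θ.unop.hom x

lemma mkTr_app {G X : SSet.{u}} (n : ℕ) (φ : ∀ k, k ≤ n → G _⦋k⦌ → X _⦋k⦌)
    (hφ : ∀ (k l : ℕ) (hk : k ≤ n) (hl : l ≤ n) (θ : ⦋k⦌ ⟶ ⦋l⦌) (x : G _⦋l⦌),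
      φ k hk (G.map θ.op x) = X.map θ.op (φ l hl x)) (k : ℕ) (hk : k ≤ n) (x : G _⦋k⦌) :
    (mkTr n φ hφ).app (op ⟨⦋k⦌, hk⟩) x = φ k hk x := rfl

lemma tr_hom_ext {G X : SSet.{u}} (n : ℕ) {f g : (truncation n).obj G ⟶ (truncation n).obj X}
    (h : ∀ k (hk : k ≤ n) (x : G _⦋k⦌), f.app (op ⟨⦋k⦌, hk⟩) x = g.app (op ⟨⦋k⦌, hk⟩) x) :
    f = g := by
  ext ⟨⟨k, hk⟩⟩ x
  exact h k.len hk x

/-- `X` is `n`-coskeletal if maps out of any `G` can be constructed in dimensions `≤ n`. -/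
lemma exists_hom {X : SSet.{u}} (n : ℕ) [SimplicialObject.IsCoskeletal X n] (G : SSet.{u})
    (φ : ∀ k, k ≤ n → G _⦋k⦌ → X _⦋k⦌)
    (hφ : ∀ (k l : ℕ) (hk : k ≤ n) (hl : l ≤ n) (θ : ⦋k⦌ ⟶ ⦋l⦌) (x : G _⦋l⦌),
      φ k hk (G.map θ.op x) = X.map θ.op (φ l hl x)) :
    ∃ γ : G ⟶ X, ∀ k (hk : k ≤ n) (x : G _⦋k⦌), γ.app (op ⦋k⦌) x = φ k hk x := by
  obtain ⟨γ, hγ, -⟩ := existsUnique_hom (X := X) n G (mkTr n φ hφ)
  refine ⟨γ, fun k hk x => ?_⟩
  rw [← mkTr_app n φ hφ k hk x, ← hγ]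
  rfl

lemma hom_ext {X : SSet.{u}} (n : ℕ) [SimplicialObject.IsCoskeletal X n] {G : SSet.{u}}
    {f g : G ⟶ X} (h : ∀ k, k ≤ n → ∀ x : G _⦋k⦌, f.app (op ⦋k⦌) x = g.app (op ⦋k⦌) x) : f = g := by
  obtain ⟨γ, -, hγ⟩ := existsUnique_hom (X := X) n G ((truncation n).map g)
  rw [hγ g rfl]
  apply hγ
  exact tr_hom_ext n h

section Homotopy

variable {U V : SSet.{u}} (f₀ f₁ : V ⟶ U) (n : ℕ)

open MonoidalCategory in
/-- Two maps to an `n`-coskeletal simplicial set which agree in dimensions `< n` are homotopic. -/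
theorem nonempty_homotopy
    (h : ∀ i : ℕ, i < n → f₀.app (op ⦋i⦌) = f₁.app (op ⦋i⦌)) [SimplicialObject.IsCoskeletal U n] :
    Nonempty (SSet.Homotopy f₀ f₁) := by
  have key : ∀ (k l : ℕ) (hk : k ≤ n) (hl : l ≤ n) (θ : ⦋k⦌ ⟶ ⦋l⦌) (x : V _⦋l⦌),
      f₀.app (op ⦋k⦌) (V.map θ.op x) = f₁.app (op ⦋k⦌) (V.map θ.op x) ∨
        ∃ e : k = l, θ = eqToHom (by rw [e]) := by
    intro k l hk hl θ x
    rcases hk.lt_or_eq with hk | rfl
    · left; rw [h k hk]
    rcases hl.lt_or_eq with hl | rfl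
    · left
      rw [NatTrans.naturality_apply, NatTrans.naturality_apply, h l hl]
    by_cases hθ : Mono θ
    · right
      exact ⟨rfl, SimplexCategory.eq_id_of_mono θ⟩
    · left
      rcases l with _ | l
      · exfalso
        apply hθ
        rw [SimplexCategory.mono_iff_injective]
        intro a b _
        exact Subsingleton.elim (α := Fin 1) a b
      · obtain ⟨i, θ', rfl⟩ := SimplexCategory.eq_σ_comp_of_not_injective θ (fun hf => hθ (by
          rwa [SimplexCategory.mono_iff_injective]))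
        rw [op_comp, Functor.map_comp_apply,
          NatTrans.naturality_apply f₀ (SimplexCategory.σ i).op (V.map θ'.op x),
          NatTrans.naturality_apply f₁ (SimplexCategory.σ i).op (V.map θ'.op x), h l (by lia)]
  classical
  obtain ⟨γ, hγ⟩ := exists_hom (X := U) n (V ⊗ Δ[1])
    (fun k _ x => if x.2 (0 : Fin (k + 1)) = 0 then f₀.app (op ⦋k⦌) x.1 else f₁.app (op ⦋k⦌) x.1) (by
    rintro k l hk hl θ ⟨x, α⟩
    rcases key k l hk hl θ x with h1 | ⟨rfl, rfl⟩
    · have h2 : ∀ (p : Prop) [Decidable p], (if p then f₀.app (op ⦋k⦌) (V.map θ.op x) else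
          f₁.app (op ⦋k⦌) (V.map θ.op x)) = f₀.app (op ⦋k⦌) (V.map θ.op x) := by
        intro p _
        split_ifs
        · rfl
        · exact h1.symm
      have h3 : ∀ (p : Prop) [Decidable p], U.map θ.op (if p then f₀.app (op ⦋l⦌) x else
          f₁.app (op ⦋l⦌) x) = f₀.app (op ⦋k⦌) (V.map θ.op x) := by
        intro p _
        split_ifs
        · rw [NatTrans.naturality_apply]
        · rw [h1, NatTrans.naturality_apply]
      exact (h2 _).trans (h3 _).symm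
    · have e1 : ∀ (Z : SSet.{u}) (z : Z _⦋k⦌), Z.map (𝟙 ⦋k⦌ : ⦋k⦌ ⟶ ⦋k⦌).op z = z :=
        fun Z z => by simp
      rw [eqToHom_refl, e1, e1])
  refine ⟨{ h := γ, h₀ := ?_, h₁ := ?_, rel := ?_ }⟩
  · apply hom_ext n
    intro k hk x
    refine (hγ k hk (ι₀.app (op ⦋k⦌) x)).trans ?_
    simp
  · apply hom_ext n
    intro k hk x
    refine (hγ k hk (ι₁.app (op ⦋k⦌) x)).trans ?_
    simp
  · ext ⟨k⟩ x
    exact (Set.notMem_empty _ x.1.2).elim

end Homotopy

end K358.Cosk
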