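import Mathlib.AlgebraicTopology.SimplicialSet.Basic
import Mathlib.AlgebraicTopology.SimplicialSet.Skeleton
import Mathlib.AlgebraicTopology.SimplicialSet.Dimension
import Mathlib.AlgebraicTopology.SimplicialSet.Degenerate

/-!
# The skeleton of a simplicial set and the left adjoint of truncation
-/

set_option autoImplicit false
universe u

open CategoryTheory Simplicial Opposite SSet

namespace K358.Skel

/-- A map of simplicial sets which is bijective in dimensions `≤ m` has invertible `m`-truncation. -/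
lemma isIso_truncation_map {X Y : SSet.{u}} (f : X ⟶ Y) (m : ℕ)
    (h : ∀ k ≤ m, Function.Bijective (f.app (op ⦋k⦌))) : IsIso ((truncation m).map f) := by
  have : ∀ k : (SimplexCategory.Truncated m)ᵒᵖ, IsIso (((truncation m).map f).app k) := by
    rintro ⟨⟨k, hk⟩⟩
    induction k using SimplexCategory.rec with | _ k =>
    rw [isIso_iff_bijective]
    exact h k hk
  exact NatIso.isIso_of_isIso_app _

lemma bijective_of_isIso_truncation_map {X Y : SSet.{u}} (f : X ⟶ Y) (m : ℕ)
    (h : IsIso ((truncation m).map f)) (k : ℕ) (hk : k ≤ m) : Function.Bijective (f.app (op ⦋k⦌)) := by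
  have : IsIso (((truncation m).map f).app (op ⟨⦋k⦌, hk⟩)) := inferInstance
  rw [isIso_iff_bijective] at this
  exact this

lemma isIso_truncation_map_ι {X : SSet.{u}} (A : X.Subcomplex) (m : ℕ)
    (h : ∀ k ≤ m, ∀ x : X _⦋k⦌, x ∈ A.obj _) : IsIso ((truncation m).map A.ι) :=
  isIso_truncation_map _ _ fun k hk =>
    ⟨fun _ _ h => Subtype.ext h, fun x => ⟨⟨x, h k hk x⟩, rfl⟩⟩

/-- `sk_m U` is generated by simplices of dimension `≤ m`. -/
lemma skeleton_sk_obj (m : ℕ) (U : SSet.Truncated.{u} m) :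
    ((SSet.Truncated.sk m).obj U).skeleton (m + 1) = ⊤ := by
  let X : SSet.{u} := (SSet.Truncated.sk m).obj U
  let A := X.skeleton (m + 1)
  have hA : IsIso ((truncation m).map A.ι) :=
    isIso_truncation_map_ι A m fun k hk x => X.mem_skeleton x (by lia)
  let φ : X ⟶ A := ((skAdj m).homEquiv _ _).symm
    ((skAdj m).unit.app U ≫ inv ((truncation m).map A.ι))
  have hφ : φ ≫ A.ι = 𝟙 X := by
    apply ((skAdj m).homEquiv _ _).injective
    rw [Adjunction.homEquiv_naturality_right, Equiv.apply_symm_apply, Category.assoc,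
      IsIso.inv_hom_id, Adjunction.homEquiv_unit]
    rfl
  rw [← top_le_iff]
  intro n x _
  have : x = A.ι.app n (φ.app n x) := by
    conv_lhs => rw [show x = (𝟙 X : X ⟶ X).app n x from rfl, ← hφ]
    rfl
  rw [this]
  exact (φ.app n x).2

theorem hasDimensionLT_sk_obj (m : ℕ) (U : SSet.Truncated.{u} m) :
    ((SSet.Truncated.sk m).obj U).HasDimensionLT (m + 1) where
  degenerate_eq_top n hn := by
    ext x
    simp only [Set.top_eq_univ, Set.mem_univ, iff_true]
    by_contra hx
    have h1 := (mem_skeleton_obj_iff_of_nonDegenerate _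
      (⟨x, hx⟩ : ((SSet.Truncated.sk m).obj U).nonDegenerate n) (m + 1)).1 (by
        rw [skeleton_sk_obj]; trivial)
    lia

/-- A map preserving nondegeneracy and injective on nondegenerate simplices is injective. -/
theorem injective_app {U V : SSet.{u}} (f : U ⟶ V)
    (ha : ∀ (n : ℕ) (x : U _⦋n⦌), x ∈ U.nonDegenerate n → f.app (op ⦋n⦌) x ∈ V.nonDegenerate n)
    (hb : ∀ n : ℕ, Set.InjOn (f.app (op ⦋n⦌)) (U.nonDegenerate n)) (n : ℕ) :
    Function.Injective (f.app (op ⦋n⦌)) := by
  intro x y hxy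
  obtain ⟨m₁, s₁, _, x', rfl⟩ := U.exists_nonDegenerate x
  obtain ⟨m₂, s₂, _, y', rfl⟩ := U.exists_nonDegenerate y
  rw [NatTrans.naturality_apply, NatTrans.naturality_apply] at hxy
  obtain rfl : m₁ = m₂ := V.unique_nonDegenerate_dim _ s₁ ⟨_, ha _ _ x'.2⟩ rfl s₂ ⟨_, ha _ _ y'.2⟩ hxy
  obtain rfl : s₁ = s₂ :=
    V.unique_nonDegenerate_map _ s₁ ⟨_, ha _ _ x'.2⟩ rfl s₂ ⟨_, ha _ _ y'.2⟩ hxy
  have h1 := V.unique_nonDegenerate_simplex _ s₁ ⟨_, ha _ _ x'.2⟩ rfl s₁ ⟨_, ha _ _ y'.2⟩ hxy
  have h2 : x'.1 = y'.1 := hb _ x'.2 y'.2 (congrArg Subtype.val h1)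
  rw [h2]

/-- A map which is bijective in dimensions `≤ m` out of a simplicial set of dimension `≤ m` is a
monomorphism. -/
theorem mono_of_bijective {U V : SSet.{u}} (f : U ⟶ V) (m : ℕ) [U.HasDimensionLT (m + 1)]
    (h : ∀ k ≤ m, Function.Bijective (f.app (op ⦋k⦌))) : Mono f := by
  have hinj : ∀ n, Function.Injective (f.app (op ⦋n⦌)) := by
    apply injective_app
    · intro n x hx
      have hn : n < m + 1 := U.dim_lt_of_nonDegenerate ⟨x, hx⟩ (m + 1)
      intro hd
      obtain ⟨k, hk, g, y, hy⟩ := hd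
      obtain ⟨y', rfl⟩ := (h k (by lia)).2 y
      apply hx
      refine ⟨k, hk, g, y', ?_⟩
      apply (h n (by lia)).1
      rw [NatTrans.naturality_apply, hy]
    · intro n x hx y _ hxy
      have hn : n < m + 1 := U.dim_lt_of_nonDegenerate ⟨x, hx⟩ (m + 1)
      exact (h n (by lia)).1 hxy
  rw [NatTrans.mono_iff_mono_app]
  rintro ⟨⟨n⟩⟩
  exact (mono_iff_injective _).2 (hinj n)

theorem counit_app_bijective (U : SSet.{u}) (n : ℕ) (k : ℕ) (hk : k ≤ n) :
    Function.Bijective (((skAdj n).counit.app U).app (op ⦋k⦌)) := by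
  refine bijective_of_isIso_truncation_map _ n ?_ k hk
  have h := (skAdj n).right_triangle_components U
  have : (truncation n).map ((skAdj n).counit.app U) =
      inv ((skAdj n).unit.app ((truncation n).obj U)) := by
    rw [← cancel_epi ((skAdj n).unit.app ((truncation n).obj U)), IsIso.hom_inv_id]
    exact h
  rw [this]
  infer_instance

theorem mono_counit_app (U : SSet.{u}) (n : ℕ) : Mono ((skAdj n).counit.app U) := by
  have := hasDimensionLT_sk_obj n ((truncation n).obj U)
  exact mono_of_bijective (U := (SSet.Truncated.sk n).obj ((truncation n).obj U))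
    ((skAdj n).counit.app U) n (counit_app_bijective U n)

theorem range_counit_app (U : SSet.{u}) (n : ℕ) :
    SSet.Subcomplex.range ((skAdj n).counit.app U) = U.skeleton (n + 1) := by
  apply le_antisymm
  · let X : SSet.{u} := (SSet.Truncated.sk n).obj ((truncation n).obj U)
    have hdim : X.HasDimensionLT (n + 1) := hasDimensionLT_sk_obj n ((truncation n).obj U)
    rintro ⟨⟨k⟩⟩ _ ⟨x, rfl⟩
    obtain ⟨m, s, _, y, rfl⟩ := X.exists_nonDegenerate x
    have hm : m < n + 1 := X.dim_lt_of_nonDegenerate y (n + 1)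
    have h1 := U.mem_skeleton (((skAdj n).counit.app U).app (op ⦋m⦌) y.1) hm
    have h2 := (U.skeleton (n + 1)).map s.op h1
    erw [NatTrans.naturality_apply]
    exact h2
  · rw [Subcomplex.le_iff_contains_nonDegenerate]
    intro k x hx
    rw [mem_skeleton_obj_iff_of_nonDegenerate] at hx
    obtain ⟨y, hy⟩ := (counit_app_bijective U n k (by lia)).2 x.1
    exact ⟨y, hy⟩

end K358.Skel
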