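import Groth.Agent.SSet.K358.TrivAb
import Groth.Agent.CohtopB.ClassAb
import Mathlib.Algebra.Category.Grp.Adjunctions
import Mathlib.AlgebraicTopology.DoldKan.HomotopyEquivalence
import Mathlib.AlgebraicTopology.SimplicialObject.ChainHomotopy
import Mathlib.AlgebraicTopology.SimplicialSet.Homotopy

/-!
# Homotopy equivalences of underlying simplicial sets and quasi-isomorphisms

A homomorphism of simplicial abelian groups whose underlying map of simplicial sets is a homotopy
equivalence induces a quasi-isomorphism of the alternating face map complexes.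
-/

set_option autoImplicit false
universe u

open CategoryTheory Simplicial Opposite SSet Limits AlgebraicTopology AlgebraicTopology.DoldKan

namespace K358.FreeHtpy

open K358.Moore K358.Horn K358.TrivAb Groth.Agent.CohtopB.ClassAb

/-- the simplicial free abelian group on a simplicial set. -/
abbrev FF : SSet.{u} ⥤ SimplicialObject AddCommGrpCat.{u} :=
  (SimplicialObject.whiskering _ _).obj AddCommGrpCat.free

/-- the alternating face map complex. -/
abbrev CC : SimplicialObject AddCommGrpCat.{u} ⥤ ChainComplex AddCommGrpCat.{u} ℕ :=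
  alternatingFaceMapComplex AddCommGrpCat.{u}

/-- homology of the free simplicial abelian group. -/
noncomputable abbrev HH (n : ℕ) : SSet.{u} ⥤ AddCommGrpCat.{u} :=
  FF ⋙ CC ⋙ HomologicalComplex.homologyFunctor AddCommGrpCat.{u} _ n

lemma HH_map_eq {K L : SSet.{u}} {f g : K ⟶ L} (h : Nonempty (SSet.Homotopy f g)) (n : ℕ) :
    (HH n).map f = (HH n).map g := by
  obtain ⟨h⟩ := h
  exact (h.toSimplicialObjectHomotopy.whiskerRight AddCommGrpCat.free).map_homology_eq n

lemma isIso_HH_map {K L : SSet.{u}} (f : K ⟶ L) (g : L ⟶ K)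
    (hX : Nonempty (SSet.Homotopy (f ≫ g) (𝟙 _)) ∨ Nonempty (SSet.Homotopy (𝟙 _) (f ≫ g)))
    (hY : Nonempty (SSet.Homotopy (g ≫ f) (𝟙 _)) ∨ Nonempty (SSet.Homotopy (𝟙 _) (g ≫ f))) (n : ℕ) :
    IsIso ((HH n).map f) := by
  refine ⟨(HH n).map g, ?_, ?_⟩
  · rw [← Functor.map_comp, ← CategoryTheory.Functor.map_id]
    rcases hX with h | h
    · exact HH_map_eq h n
    · exact (HH_map_eq h n).symm
  · rw [← Functor.map_comp, ← CategoryTheory.Functor.map_id]
    rcases hY with h | h
    · exact HH_map_eq h n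
    · exact (HH_map_eq h n).symm

/-- The counit. -/
noncomputable def eps (X : SimplicialObject AddCommGrpCat.{u}) : FF.obj (und X) ⟶ X :=
  Functor.whiskerLeft X AddCommGrpCat.adj.counit

lemma eps_naturality {X Y : SimplicialObject AddCommGrpCat.{u}} (f : X ⟶ Y) :
    FF.map (X := und X) (Y := und Y) (Functor.whiskerRight f (forget AddCommGrpCat.{u})) ≫ eps Y = eps X ≫ f := by
  apply NatTrans.ext
  funext n
  exact AddCommGrpCat.adj.counit.naturality (f.app n)

/-- generators. -/
def br {K : SSet.{u}} {n : ℕ} (x : K _⦋n⦌) : (FF.obj K).obj (op ⦋n⦌) := FreeAbelianGroup.of x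

lemma map_br {K : SSet.{u}} {n m : ℕ} (θ : ⦋n⦌ ⟶ ⦋m⦌) (x : K _⦋m⦌) :
    ((FF.obj K).map θ.op).hom (br x) = br (K.map θ.op x) :=
  FreeAbelianGroup.map_of_apply _

lemma FF_map_br {K L : SSet.{u}} (f : K ⟶ L) {n : ℕ} (x : K _⦋n⦌) :
    ((FF.map f).app (op ⦋n⦌)).hom (br x) = br (f.app (op ⦋n⦌) x) :=
  FreeAbelianGroup.map_of_apply _

lemma eps_br (X : SimplicialObject AddCommGrpCat.{u}) {n : ℕ} (x : (und X) _⦋n⦌) :
    ((eps X).app (op ⦋n⦌)).hom (br x) = x :=
  FreeAbelianGroup.lift_apply_of _ _

/-- The difference `[x] - [0]`. -/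
def bb {X : SimplicialObject AddCommGrpCat.{u}} {n : ℕ} (x : X.obj (op ⦋n⦌)) :
    (FF.obj (und X)).obj (op ⦋n⦌) :=
  br (K := und X) x - br (K := und X) (0 : X.obj (op ⦋n⦌))

lemma map_bb {X : SimplicialObject AddCommGrpCat.{u}} {n m : ℕ} (θ : ⦋n⦌ ⟶ ⦋m⦌)
    (x : X.obj (op ⦋m⦌)) :
    ((FF.obj (und X)).map θ.op).hom (bb x) = bb ((X.map θ.op).hom x) := by
  have h0 : (X.map θ.op).hom (0 : X.obj (op ⦋m⦌)) = 0 := map_zero _
  unfold bb
  rw [map_sub]
  refine (congrArg₂ (fun a b => a - b) (map_br θ (K := und X) x) (map_br θ (K := und X) (0 : X.obj (op ⦋m⦌)))).trans ?_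
  show br (K := und X) ((X.map θ.op).hom x) - br (K := und X) ((X.map θ.op).hom (0 : X.obj (op ⦋m⦌))) = _
  rw [h0]

lemma bb_zero {X : SimplicialObject AddCommGrpCat.{u}} {n : ℕ} :
    bb (0 : X.obj (op ⦋n⦌)) = 0 := sub_self _

lemma eps_bb {X : SimplicialObject AddCommGrpCat.{u}} {n : ℕ} (x : X.obj (op ⦋n⦌)) :
    ((eps X).app (op ⦋n⦌)).hom (bb x) = x := by
  unfold bb
  rw [map_sub]
  refine (congrArg₂ (fun (a b : X.obj (op ⦋n⦌)) => a - b) (eps_br X x) (eps_br X (0 : X.obj (op ⦋n⦌)))).trans ?_
  exact sub_zero _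

lemma FF_map_bb {X Y : SimplicialObject AddCommGrpCat.{u}} (f : X ⟶ Y) {n : ℕ} (x : X.obj (op ⦋n⦌)) :
    ((FF.map (X := und X) (Y := und Y) (Functor.whiskerRight f (forget AddCommGrpCat.{u}))).app
      (op ⦋n⦌)).hom (bb x) = bb ((f.app (op ⦋n⦌)).hom x) := by
  have h0 : (f.app (op ⦋n⦌)).hom (0 : X.obj (op ⦋n⦌)) = 0 := map_zero _
  unfold bb
  rw [map_sub]
  refine (congrArg₂ (fun a b => a - b) (FF_map_br (K := und X) (L := und Y) _ x)
    (FF_map_br (K := und X) (L := und Y) _ (0 : X.obj (op ⦋n⦌)))).trans ?_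
  show br (K := und Y) ((f.app (op ⦋n⦌)).hom x) - br (K := und Y) ((f.app (op ⦋n⦌)).hom (0 : X.obj (op ⦋n⦌))) = _
  rw [h0]

lemma facesVanish_bb {X : SimplicialObject AddCommGrpCat.{u}} {n : ℕ} {x : X.obj (op ⦋n⦌)}
    (hx : FacesVanish X n x) : FacesVanish (FF.obj (und X)) n (bb x) := by
  cases n with
  | zero => trivial
  | succ n =>
    intro j
    have h1 : (X.map (SimplexCategory.δ j).op).hom x = 0 := hx j
    refine (map_bb (SimplexCategory.δ j) x).trans ?_
    rw [h1, bb_zero]

/-- The class of an element all of whose faces vanish; every class is of this form. -/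
lemma exists_facesVanish (X : SimplicialObject AddCommGrpCat.{u}) (n : ℕ)
    (a : (CC.obj X).homology n) :
    ∃ x : X.obj (op ⦋n⦌), FacesVanish X n x ∧ IsClass (CC.obj X) n x a := by
  obtain ⟨x, hx⟩ := IsClass.exists a
  let p : ∀ n, X.obj (op ⦋n⦌) ⟶ X.obj (op ⦋n⦌) := fun n => PInfty.f n
  refine ⟨p n x, ?_, ?_⟩
  · cases n with
    | zero => trivial
    | succ n =>
      have hface : ∀ j : Fin (n + 1), X.map (SimplexCategory.δ j.succ).op (p (n + 1) x) = 0 := by
        intro j
        have h3 := HigherFacesVanish.of_P (X := X) (n + 1) n j (by omega)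
        have h4 := ConcreteCategory.congr_hom h3 x
        have h5 : p (n + 1) = (P (n + 1)).f (n + 1) := PInfty_f _
        rw [h5]
        exact h4
      intro j
      rcases Fin.eq_zero_or_eq_succ j with rfl | ⟨j', rfl⟩
      · have h3 := ConcreteCategory.congr_hom ((PInfty (X := X)).comm (n + 1) n) x
        have h4 : ((alternatingFaceMapComplex AddCommGrpCat.{u}).obj X).d (n + 1) n (p (n + 1) x) = 0 := by
          refine h3.trans ?_
          show (p n).hom (((alternatingFaceMapComplex AddCommGrpCat.{u}).obj X).d (n + 1) n x) = 0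
          have h5 : ((alternatingFaceMapComplex AddCommGrpCat.{u}).obj X).d (n + 1) n x = 0 :=
            hx.d_eq_zero n
          rw [h5, map_zero]
        rw [d_succ_apply, Fin.sum_univ_succ] at h4
        have h5 : ∑ i : Fin (n + 1), (-1 : ℤ) ^ ((i.succ : Fin (n + 2)) : ℕ) •
            (X.map (SimplexCategory.δ i.succ).op).hom (p (n + 1) x) = 0 := by
          refine Finset.sum_eq_zero fun i _ => ?_
          have h6 : (X.map (SimplexCategory.δ i.succ).op).hom (p (n + 1) x) = 0 := hface i
          rw [h6, smul_zero]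
        rw [h5, add_zero] at h4
        simpa using h4
      · exact hface j'
  · have h1 := hx.map (PInfty (X := X))
    have h2 : HomologicalComplex.homologyMap (PInfty (X := X)) n = 𝟙 _ := by
      rw [(homotopyPInftyToId X).homologyMap_eq n, HomologicalComplex.homologyMap_id]
    rw [h2] at h1
    exact h1

lemma exists_class_of_facesVanish {X : SimplicialObject AddCommGrpCat.{u}} {n : ℕ}
    {x : X.obj (op ⦋n⦌)} (hx : FacesVanish X n x) : ∃ a, IsClass (CC.obj X) n x a :=
  exists_class _ rfl (d_apply_eq_zero x hx _)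

/-- an element with vanishing faces which is a boundary is the zeroth face of an element whose other faces
vanish. -/
lemma exists_of_boundary {X : SimplicialObject AddCommGrpCat.{u}} {n : ℕ}
    {x : X.obj (op ⦋n⦌)} (hx : FacesVanish X n x) (h : IsClass (CC.obj X) n x 0) :
    ∃ w : X.obj (op ⦋n + 1⦌), X.map (SimplexCategory.δ 0).op w = x ∧
      ∀ j : Fin (n + 1), X.map (SimplexCategory.δ j.succ).op w = 0 := by
  obtain ⟨w₀, h2⟩ := h.eq_boundary (n + 1) (by simp)
  let p : ∀ n, X.obj (op ⦋n⦌) ⟶ X.obj (op ⦋n⦌) := fun n => PInfty.f n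
  have hface : ∀ j : Fin (n + 1), X.map (SimplexCategory.δ j.succ).op (p (n + 1) w₀) = 0 := by
    intro j
    have h3 := HigherFacesVanish.of_P (X := X) (n + 1) n j (by omega)
    have h4 := ConcreteCategory.congr_hom h3 w₀
    have h5 : p (n + 1) = (P (n + 1)).f (n + 1) := PInfty_f _
    rw [h5]
    exact h4
  refine ⟨p (n + 1) w₀, ?_, hface⟩
  have h3 := ConcreteCategory.congr_hom ((PInfty (X := X)).comm (n + 1) n) w₀
  have h4 : ((alternatingFaceMapComplex AddCommGrpCat.{u}).obj X).d (n + 1) n (p (n + 1) w₀) = x := by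
    refine h3.trans ?_
    show (p n).hom (((alternatingFaceMapComplex AddCommGrpCat.{u}).obj X).d (n + 1) n w₀) = x
    have h5 : ((alternatingFaceMapComplex AddCommGrpCat.{u}).obj X).d (n + 1) n w₀ = x := h2
    rw [h5]
    exact PInfty_apply x hx
  rw [d_succ_apply, Fin.sum_univ_succ] at h4
  have h5 : ∑ i : Fin (n + 1), (-1 : ℤ) ^ ((i.succ : Fin (n + 2)) : ℕ) •
      (X.map (SimplexCategory.δ i.succ).op).hom (p (n + 1) w₀) = 0 := by
    refine Finset.sum_eq_zero fun i _ => ?_
    have h6 : (X.map (SimplexCategory.δ i.succ).op).hom (p (n + 1) w₀) = 0 := hface i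
    rw [h6, smul_zero]
  rw [h5, add_zero] at h4
  simpa using h4

/-- conversely. -/
lemma isClass_zero_of_face {X : SimplicialObject AddCommGrpCat.{u}} {n : ℕ}
    {x : X.obj (op ⦋n⦌)} (w : X.obj (op ⦋n + 1⦌)) (h0 : X.map (SimplexCategory.δ 0).op w = x)
    (h : ∀ j : Fin (n + 1), X.map (SimplexCategory.δ j.succ).op w = 0) :
    IsClass (CC.obj X) n x 0 := by
  have h1 : (CC.obj X).d (n + 1) n w = x := by
    refine (d_succ_apply n w).trans ?_
    rw [Fin.sum_univ_succ]
    have h5 : ∑ i : Fin (n + 1), (-1 : ℤ) ^ ((i.succ : Fin (n + 2)) : ℕ) •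
        (X.map (SimplexCategory.δ i.succ).op).hom w = 0 := by
      refine Finset.sum_eq_zero fun i _ => ?_
      have h6 : (X.map (SimplexCategory.δ i.succ).op).hom w = 0 := h i
      rw [h6, smul_zero]
    rw [h5, add_zero]
    have h7 : (X.map (SimplexCategory.δ 0).op).hom w = x := h0
    rw [h7]
    simp
  rw [← h1]
  exact isClass_boundary _ _

theorem quasiIso {X Y : SimplicialObject AddCommGrpCat.{u}} (f : X ⟶ Y)
    (h : ∀ n, IsIso ((HH n).map (X := und X) (Y := und Y)
      (Functor.whiskerRight f (forget AddCommGrpCat.{u})))) :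
    QuasiIso (CC.map f) := by
  refine ⟨fun n => ?_⟩
  rw [quasiIsoAt_iff_isIso_homologyMap]
  let Uf : und X ⟶ und Y := Functor.whiskerRight f (forget AddCommGrpCat.{u})
  have hbij : Function.Bijective ((HH n).map Uf) := by
    have := h n
    exact ConcreteCategory.bijective_of_isIso _
  have hnat : ∀ a, HomologicalComplex.homologyMap (CC.map (eps Y)) n ((HH n).map Uf a) =
      HomologicalComplex.homologyMap (CC.map f) n (HomologicalComplex.homologyMap (CC.map (eps X)) n a) := by
    intro a
    have h1 : (HH n).map Uf ≫ HomologicalComplex.homologyMap (CC.map (eps Y)) n =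
        HomologicalComplex.homologyMap (CC.map (eps X)) n ≫ HomologicalComplex.homologyMap (CC.map f) n := by
      show HomologicalComplex.homologyMap (CC.map (FF.map Uf)) n ≫ _ = _
      rw [← HomologicalComplex.homologyMap_comp, ← HomologicalComplex.homologyMap_comp,
        ← Functor.map_comp, ← Functor.map_comp, eps_naturality]
    exact ConcreteCategory.congr_hom h1 a
  have hb : Function.Bijective (HomologicalComplex.homologyMap (CC.map f) n) := by
    constructor
    · rw [injective_iff_map_eq_zero]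
      intro a ha
      obtain ⟨x, hx, hxa⟩ := exists_facesVanish X n a
      have hfx : IsClass (CC.obj Y) n ((f.app (op ⦋n⦌)).hom x) 0 := by
        have := hxa.map (CC.map f)
        rw [ha] at this
        exact this
      have hfx' : FacesVanish Y n ((f.app (op ⦋n⦌)).hom x) := by
        cases n with
        | zero => trivial
        | succ n =>
          intro j
          have h1 := NatTrans.naturality_apply f (SimplexCategory.δ j).op x
          refine h1.symm.trans ?_
          show (f.app _).hom ((X.map (SimplexCategory.δ j).op).hom x) = 0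
          have h2 : (X.map (SimplexCategory.δ j).op).hom x = 0 := hx j
          rw [h2, map_zero]
      obtain ⟨w, hw0, hw⟩ := exists_of_boundary hfx' hfx
      have hbb : IsClass (CC.obj (FF.obj (und Y))) n (bb ((f.app (op ⦋n⦌)).hom x)) 0 := by
        refine isClass_zero_of_face (bb w) ?_ ?_
        · refine (map_bb (SimplexCategory.δ 0) w).trans ?_
          exact congrArg bb hw0
        · intro j
          refine (map_bb (SimplexCategory.δ j.succ) w).trans ?_
          exact (congrArg bb (hw j)).trans bb_zero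
      obtain ⟨b, hb⟩ := exists_class_of_facesVanish (facesVanish_bb hx)
      have h1 : IsClass (CC.obj (FF.obj (und Y))) n (bb ((f.app (op ⦋n⦌)).hom x)) ((HH n).map Uf b) := by
        have := hb.map (CC.map (FF.map Uf))
        rw [← FF_map_bb f x]
        exact this
      have h2 : (HH n).map Uf b = 0 := h1.unique hbb
      have h3 : b = 0 := hbij.1 (by rw [h2]; exact (map_zero ((HH n).map Uf).hom).symm)
      subst h3
      have h4 := hb.map (CC.map (eps X))
      have h5 : IsClass (CC.obj X) n x 0 := by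
        have h6 : ((CC.map (eps X)).f n) (bb x) = x := eps_bb x
        rw [h6] at h4
        simpa using h4
      exact hxa.unique h5
    · intro a
      obtain ⟨y, hy, hya⟩ := exists_facesVanish Y n a
      obtain ⟨b, hb⟩ := exists_class_of_facesVanish (facesVanish_bb hy)
      obtain ⟨c, rfl⟩ := hbij.2 b
      refine ⟨HomologicalComplex.homologyMap (CC.map (eps X)) n c, ?_⟩
      rw [← hnat]
      have h4 := hb.map (CC.map (eps Y))
      have h6 : ((CC.map (eps Y)).f n) (bb y) = y := eps_bb y
      rw [h6] at h4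
      exact h4.unique hya
  exact (ConcreteCategory.isIso_iff_bijective _).2 hb

end K358.FreeHtpy
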