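import Mathlib.AlgebraicTopology.SimplicialSet.Basic
import Mathlib.Algebra.Group.Subgroup.Basic

/-!
# Moore's algorithm: filling horns in simplicial groups
-/

set_option autoImplicit false
universe u

open CategoryTheory Simplicial Opposite SSet

namespace K358.Moore

variable {X : SSet.{u}}

/-- the compatibility condition for a partial family of faces indexed by `S`. -/
def Compat : ∀ (n : ℕ) (_ : Fin (n + 2) → X _⦋n⦌) (_ : Set (Fin (n + 2))), Prop
  | 0, _, _ => True
  | n + 1, x, S => ∀ j k : Fin (n + 2), j ≤ k → j.castSucc ∈ S → k.succ ∈ S →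
      X.δ j (x k.succ) = X.δ k (x j.castSucc)

lemma Compat.mono {n : ℕ} {x : Fin (n + 2) → X _⦋n⦌} {S T : Set (Fin (n + 2))} (h : Compat n x T)
    (hST : S ⊆ T) : Compat n x S := by
  cases n with
  | zero => trivial
  | succ n => exact fun j k hjk hj hk => h j k hjk (hST hj) (hST hk)

lemma δδ {n : ℕ} {i j : Fin (n + 2)} (h : i ≤ j) (x : X _⦋n + 2⦌) :
    X.δ i (X.δ j.succ x) = X.δ j (X.δ i.castSucc x) :=
  ConcreteCategory.congr_hom (X.δ_comp_δ h) x

lemma δσ_le {n : ℕ} {i : Fin (n + 2)} {j : Fin (n + 1)} (h : i ≤ j.castSucc) (x : X _⦋n + 1⦌) :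
    X.δ i.castSucc (X.σ j.succ x) = X.σ j (X.δ i x) :=
  ConcreteCategory.congr_hom (X.δ_comp_σ_of_le h) x

lemma δσ_gt {n : ℕ} {i : Fin (n + 2)} {j : Fin (n + 1)} (h : j.castSucc < i) (x : X _⦋n + 1⦌) :
    X.δ i.succ (X.σ j.castSucc x) = X.σ j (X.δ i x) :=
  ConcreteCategory.congr_hom (X.δ_comp_σ_of_gt h) x

lemma δσ_self {n : ℕ} (i : Fin (n + 1)) (x : X _⦋n⦌) : X.δ i.castSucc (X.σ i x) = x :=
  ConcreteCategory.congr_hom (X.δ_comp_σ_self (i := i)) x

lemma δσ_succ {n : ℕ} (i : Fin (n + 1)) (x : X _⦋n⦌) : X.δ i.succ (X.σ i x) = x :=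
  ConcreteCategory.congr_hom (X.δ_comp_σ_succ (i := i)) x

variable [∀ n : ℕ, Group (X _⦋n⦌)]

lemma map_one' {n m : ℕ} (φ : X _⦋n⦌ → X _⦋m⦌) (h : ∀ a b, φ (a * b) = φ a * φ b) : φ 1 = 1 := by
  have := h 1 1
  rw [mul_one] at this
  exact (mul_eq_left (a := φ 1)).1 this.symm

lemma map_inv_mul {n m : ℕ} (φ : X _⦋n⦌ → X _⦋m⦌) (h : ∀ a b, φ (a * b) = φ a * φ b) (a b : X _⦋n⦌) :
    φ (a⁻¹ * b) = (φ a)⁻¹ * φ b := by
  rw [h]
  congr 1
  rw [eq_inv_iff_mul_eq_one, ← h, inv_mul_cancel, map_one' φ h]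

theorem step (hδ : ∀ (n : ℕ) (i : Fin (n + 2)) (a b : X _⦋n + 1⦌), X.δ i (a * b) = X.δ i a * X.δ i b)
    (hσ : ∀ (n : ℕ) (i : Fin (n + 1)) (a b : X _⦋n⦌), X.σ i (a * b) = X.σ i a * X.σ i b)
    {n : ℕ} (x : Fin (n + 2) → X _⦋n⦌) (S : Set (Fin (n + 2))) (t : Fin (n + 2)) (r : Fin (n + 1))
    (ht : t = r.castSucc ∨ t = r.succ) (hr1 : r.castSucc ∉ S) (hr2 : r.succ ∉ S)
    (hc : Compat n x (insert t S)) (g : X _⦋n + 1⦌) (hg : ∀ j ∈ S, X.δ j g = x j) :
    ∀ j ∈ insert t S, X.δ j (g * X.σ r ((X.δ t g)⁻¹ * x t)) = x j := by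
  intro j hj
  rw [hδ]
  rcases hj with rfl | hj
  · have h1 : ∀ y, X.δ j (X.σ r y) = y := by
      intro y
      rcases ht with rfl | rfl
      · exact δσ_self _ _
      · exact δσ_succ _ _
    rw [h1, mul_inv_cancel_left]
  · have hne1 : j ≠ r.castSucc := fun h => hr1 (h ▸ hj)
    have hne2 : j ≠ r.succ := fun h => hr2 (h ▸ hj)
    suffices hs : X.δ j (X.σ r ((X.δ t g)⁻¹ * x t)) = 1 by rw [hs, mul_one, hg j hj]
    obtain _ | n := n
    · exfalso
      have h0 : r = 0 := Subsingleton.elim (α := Fin 1) _ _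
      subst h0
      fin_cases j
      · exact hne1 rfl
      · exact hne2 rfl
    · rcases lt_or_ge j r.castSucc with hlt | hge
      · -- `j < r.castSucc`
        have hjt : j < t := by
          rcases ht with rfl | rfl
          · exact hlt
          · exact hlt.trans (Fin.castSucc_lt_succ)
        obtain ⟨j', rfl⟩ := Fin.exists_castSucc_eq.2 (show j ≠ Fin.last _ from Fin.ne_last_of_lt hjt)
        obtain ⟨t', rfl⟩ := Fin.exists_succ_eq.2 (show t ≠ 0 from Fin.ne_zero_of_lt hjt)
        obtain ⟨r', rfl⟩ := Fin.exists_succ_eq.2 (show r ≠ 0 from fun h => by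
          subst h
          exact absurd hlt (by simp))
        have hjr : j' ≤ r'.castSucc := by
          rw [Fin.lt_def] at hlt
          rw [Fin.le_def]
          simp at hlt ⊢
          omega
        have hjt' : j' ≤ t' := by
          rw [Fin.lt_def] at hjt
          rw [Fin.le_def]
          simp at hjt ⊢
          omega
        rw [δσ_le hjr, map_inv_mul _ (hδ _ _), δδ hjt', hg _ hj,
          hc j' t' hjt' (Set.mem_insert_of_mem _ hj) (Set.mem_insert _ _), inv_mul_cancel,
          map_one' _ (hσ _ _)]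
      · have hgt : r.succ < j := by
          have h1 : r.castSucc < j := lt_of_le_of_ne hge (Ne.symm hne1)
          rw [Fin.lt_def] at h1 ⊢
          have h2 : j.val ≠ r.succ.val := fun h => hne2 (Fin.ext h)
          simp at h1 h2 ⊢
          omega
        have htj : t < j := by
          rcases ht with rfl | rfl
          · exact (Fin.castSucc_lt_succ).trans hgt
          · exact hgt
        obtain ⟨t', rfl⟩ := Fin.exists_castSucc_eq.2 (show t ≠ Fin.last _ from Fin.ne_last_of_lt htj)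
        obtain ⟨j', rfl⟩ := Fin.exists_succ_eq.2 (show j ≠ 0 from Fin.ne_zero_of_lt htj)
        obtain ⟨r', rfl⟩ := Fin.exists_castSucc_eq.2 (show r ≠ Fin.last _ from fun h => by
          subst h
          rw [Fin.lt_def] at hgt
          simp at hgt
          omega)
        have hrj : r'.castSucc < j' := by
          rw [Fin.lt_def] at hgt ⊢
          simp at hgt ⊢
          omega
        have htj' : t' ≤ j' := by
          rw [Fin.lt_def] at htj
          rw [Fin.le_def]
          simp at htj ⊢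
          omega
        rw [δσ_gt hrj, map_inv_mul _ (hδ _ _), ← δδ htj', hg _ hj,
          ← hc t' j' htj' (Set.mem_insert _ _) (Set.mem_insert_of_mem _ hj), inv_mul_cancel,
          map_one' _ (hσ _ _)]

theorem fill (hδ : ∀ (n : ℕ) (i : Fin (n + 2)) (a b : X _⦋n + 1⦌), X.δ i (a * b) = X.δ i a * X.δ i b)
    (hσ : ∀ (n : ℕ) (i : Fin (n + 1)) (a b : X _⦋n⦌), X.σ i (a * b) = X.σ i a * X.σ i b)
    (H : ∀ n : ℕ, Subgroup (X _⦋n⦌))
    (Hδ : ∀ (n : ℕ) (i : Fin (n + 2)) (a : X _⦋n + 1⦌), a ∈ H (n + 1) → X.δ i a ∈ H n)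
    (Hσ : ∀ (n : ℕ) (i : Fin (n + 1)) (a : X _⦋n⦌), a ∈ H n → X.σ i a ∈ H (n + 1))
    {n : ℕ} (i : Fin (n + 2)) (x : Fin (n + 2) → X _⦋n⦌) (hx : ∀ j ≠ i, x j ∈ H n)
    (hc : Compat n x {i}ᶜ) :
    ∃ g ∈ H (n + 1), ∀ j ≠ i, X.δ j g = x j := by
  -- first stage
  have stage1 : ∀ r : ℕ, r ≤ i.val → ∃ g ∈ H (n + 1), ∀ j : Fin (n + 2), j.val < r → X.δ j g = x j := by
    intro r
    induction r with
    | zero => intro _; exact ⟨1, (H (n + 1)).one_mem, fun j hj => absurd hj (by omega)⟩
    | succ r ih =>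
      intro hr
      obtain ⟨g, hgH, hg⟩ := ih (by omega)
      have hrn : r < n + 1 := by omega
      let r' : Fin (n + 1) := ⟨r, hrn⟩
      have h1 := step hδ hσ x {j | j.val < r} r'.castSucc r' (Or.inl rfl) (by simp [r'])
        (by simp [r']) (hc.mono (by
          intro j hj
          simp only [Set.mem_insert_iff, Set.mem_ofPred_eq] at hj
          simp only [Set.mem_compl_iff, Set.mem_singleton_iff]
          rintro rfl
          rcases hj with hj | hj
          · rw [hj] at hr; simp [r'] at hr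
          · omega)) g (fun j hj => hg j hj)
      refine ⟨_, (H (n + 1)).mul_mem hgH (Hσ _ _ _ ((H n).mul_mem ((H n).inv_mem (Hδ _ _ _ hgH))
        (hx _ ?_))), fun j hj => h1 j ?_⟩
      · intro h
        have := congrArg Fin.val h
        simp [r'] at this
        omega
      · simp only [Set.mem_insert_iff, Set.mem_ofPred_eq]
        rcases Nat.lt_succ_iff_lt_or_eq.1 hj with h | h
        · exact Or.inr h
        · exact Or.inl (Fin.ext (by simp [r', h]))
  -- second stage
  have stage2 : ∀ s : ℕ, s ≤ n + 1 - i.val → ∃ g ∈ H (n + 1), ∀ j : Fin (n + 2),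
      (j.val < i.val ∨ n + 2 - s ≤ j.val) → X.δ j g = x j := by
    intro s
    induction s with
    | zero =>
      intro _
      obtain ⟨g, hgH, hg⟩ := stage1 i.val le_rfl
      exact ⟨g, hgH, fun j hj => hg j (by omega)⟩
    | succ s ih =>
      intro hs
      obtain ⟨g, hgH, hg⟩ := ih (by omega)
      have hrn : n - s < n + 1 := by omega
      let r' : Fin (n + 1) := ⟨n - s, hrn⟩
      have hr's : r'.succ.val = n + 1 - s := by simp [r']; omega
      have hr's' : r'.castSucc.val = n - s := by simp [r']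
      have h1 := step hδ hσ x {j | j.val < i.val ∨ n + 2 - s ≤ j.val} r'.succ r' (Or.inr rfl)
        (by rw [Set.mem_ofPred_eq, hr's']; omega)
        (by rw [Set.mem_ofPred_eq, hr's]; omega) (hc.mono (by
          intro j hj
          simp only [Set.mem_insert_iff, Set.mem_ofPred_eq] at hj
          simp only [Set.mem_compl_iff, Set.mem_singleton_iff]
          rintro rfl
          rcases hj with hj | hj | hj
          · have := congrArg Fin.val hj
            omega
          · omega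
          · omega)) g (fun j hj => hg j hj)
      refine ⟨_, (H (n + 1)).mul_mem hgH (Hσ _ _ _ ((H n).mul_mem ((H n).inv_mem (Hδ _ _ _ hgH))
        (hx _ ?_))), fun j hj => h1 j ?_⟩
      · intro h
        have := congrArg Fin.val h
        omega
      · simp only [Set.mem_insert_iff, Set.mem_ofPred_eq]
        by_cases h : j.val = n + 1 - s
        · exact Or.inl (Fin.ext (by rw [h, hr's]))
        · right
          omega
  obtain ⟨g, hgH, hg⟩ := stage2 (n + 1 - i.val) le_rfl
  refine ⟨g, hgH, fun j hj => hg j ?_⟩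
  have h1 : j.val ≠ i.val := fun h => hj (Fin.ext h)
  omega

end K358.Moore
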